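import Cfsg.Agent.H51.Der.Tools
import Cfsg.Agent.H439.Der.Three

/-!
# Tools for the rows of S3502: missing classes of elements of prime order (helper348)

* `cent_dvd` : `orderOf g ∣ |C(x)|` if `g` commutes with `x`
* `sq_dvd_cent` : `p ^ 2 ∣ |C(z)|` for `z` of order `p` if `p ^ 2 ∣ |T|`
* `two_missing` : `p ∥ |M|`, three elements of order `p` whose centralizers have three different orders: two of them are missing
-/

set_option autoImplicit false

namespace Cfsg.Agent.H348.Der

open Subgroup Cfsg.Agent.H439.Der Cfsg.Agent.H938.Sax Cfsg.Agent.H51.Der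

variable {T : Type*} [Group T]

theorem cent_dvd {x g : T} (h : g * x = x * g) : orderOf g ∣ Nat.card (centralizer ({x} : Set T)) := by
  rw [← Subgroup.orderOf_mk g (mem_centralizer_singleton_iff.2 h)]
  exact orderOf_dvd_natCard _

/-- the centralizer of an element of order `p` is divisible by `p ^ 2` if `p ^ 2` divides `|T|` -/
theorem sq_dvd_cent [Finite T] {p : ℕ} (hp : p.Prime) (h : p ^ 2 ∣ Nat.card T) {z : T} (hz : orderOf z = p) :
    p ^ 2 ∣ Nat.card (centralizer ({z} : Set T)) := by
  have := Fact.mk hp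
  have hZ : IsPGroup p (zpowers z) := IsPGroup.of_card (n := 1) (by rw [Nat.card_zpowers, hz, pow_one])
  obtain ⟨P, hP⟩ := hZ.exists_le_sylow
  have hzP : z ∈ (P : Subgroup T) := hP (mem_zpowers z)
  have hPc : p ^ 2 ∣ Nat.card (P : Subgroup T) := P.pow_dvd_card_of_pow_dvd_card h
  have hnt : Nontrivial (P : Subgroup T) := by
    rw [← Finite.one_lt_card_iff_nontrivial]
    exact (Nat.one_lt_pow (by norm_num) hp.one_lt).trans_le (Nat.le_of_dvd Nat.card_pos hPc)
  have hpZ : p ∣ Nat.card (center (P : Subgroup T)) := by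
    have := P.isPGroup'.center_nontrivial
    obtain ⟨m, hm, h1⟩ := ((P.isPGroup'.to_subgroup (center (P : Subgroup T))).nontrivial_iff_card).1 this
    rw [h1]
    exact dvd_pow_self p hm.ne'
  by_cases hzc : (⟨z, hzP⟩ : (P : Subgroup T)) ∈ center (P : Subgroup T)
  · refine hPc.trans (card_dvd_of_le fun g hg => ?_)
    rw [mem_centralizer_singleton_iff]
    exact congrArg Subtype.val (mem_center_iff.1 hzc ⟨g, hg⟩)
  · obtain ⟨⟨y, hyc⟩, hy⟩ := exists_prime_orderOf_dvd_card' p hpZ
    rw [Subgroup.orderOf_mk] at hy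
    -- the subgroup generated by the central element `y` and `z`
    let Y : Subgroup (P : Subgroup T) := zpowers y ⊔ zpowers ⟨z, hzP⟩
    have hyY : y ∈ Y := mem_sup_left (mem_zpowers y)
    have hzY : (⟨z, hzP⟩ : (P : Subgroup T)) ∈ Y := mem_sup_right (mem_zpowers _)
    have hYP : IsPGroup p Y := P.isPGroup'.to_subgroup Y
    obtain ⟨k, hk⟩ := IsPGroup.iff_card.1 hYP
    have hk2 : 2 ≤ k := by
      by_contra hlt
      push Not at hlt
      have h1 : zpowers y = Y := by
        refine Subgroup.eq_of_le_of_card_ge (zpowers_le.2 hyY) ?_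
        rw [hk, Nat.card_zpowers, hy]
        calc p ^ k ≤ p ^ 1 := Nat.pow_le_pow_right hp.pos (by omega)
          _ = p := pow_one p
      rw [← h1] at hzY
      exact hzc ((zpowers_le.2 hyc : zpowers y ≤ center (P : Subgroup T)) hzY)
    have hYc : p ^ 2 ∣ Nat.card Y := hk ▸ pow_dvd_pow p hk2
    have hYm : Nat.card (Y.map (P : Subgroup T).subtype) = Nat.card Y :=
      Nat.card_congr (Y.equivMapOfInjective _ (P : Subgroup T).subtype_injective).toEquiv.symm
    rw [← hYm] at hYc
    refine hYc.trans (card_dvd_of_le ?_)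
    rintro _ ⟨g, hg, rfl⟩
    rw [mem_centralizer_singleton_iff]
    have h2 : Y ≤ centralizer ({(⟨z, hzP⟩ : (P : Subgroup T))} : Set (P : Subgroup T)) := by
      refine sup_le ?_ ?_
      · rw [zpowers_le, mem_centralizer_singleton_iff]
        exact (mem_center_iff.1 hyc ⟨z, hzP⟩).symm
      · rw [zpowers_le, mem_centralizer_singleton_iff]
    exact congrArg Subtype.val (mem_centralizer_singleton_iff.1 (h2 hg))

/-- `p ∥ |M|`: two of three classes of elements of order `p` are missing -/
theorem two_missing [Finite T] {M : Subgroup T} {p : ℕ} (hp : p.Prime) (hM : ¬ p ^ 2 ∣ Nat.card M) {x y z : T}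
    (hx : orderOf x = p) (hy : orderOf y = p) (hz : orderOf z = p)
    (hxy : Nat.card (centralizer ({x} : Set T)) ≠ Nat.card (centralizer ({y} : Set T)))
    (hxz : Nat.card (centralizer ({x} : Set T)) ≠ Nat.card (centralizer ({z} : Set T)))
    (hyz : Nat.card (centralizer ({y} : Set T)) ≠ Nat.card (centralizer ({z} : Set T))) :
    ∃ a b : T, orderOf a = p ∧ orderOf b = p ∧ (∀ φ : T ≃* T, φ a ∉ M) ∧ (∀ φ : T ≃* T, φ b ∉ M) ∧
      ∀ φ : T ≃* T, φ a ≠ b := by
  have key : ∀ {a b : T}, Nat.card (centralizer ({a} : Set T)) ≠ Nat.card (centralizer ({b} : Set T)) →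
      ∀ φ : T ≃* T, φ a ≠ b := fun h φ hφ => h (card_cent_map φ hφ)
  rcases class_missing hp hM hx hy hxy with h1 | h1
  · rcases class_missing hp hM hy hz hyz with h2 | h2
    · exact ⟨x, y, hx, hy, h1, h2, key hxy⟩
    · exact ⟨x, z, hx, hz, h1, h2, key hxz⟩
  · rcases class_missing hp hM hx hz hxz with h2 | h2
    · exact ⟨y, x, hy, hx, h1, h2, key hxy.symm⟩
    · exact ⟨y, z, hy, hz, h1, h2, key hyz⟩

end Cfsg.Agent.H348.Der
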