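import Cfsg.Agent.H348.Der.Num
import Cfsg.Agent.H348.Der.Class
import Cfsg.Agent.H348.Der.Sec
import Cfsg.Agent.H51.Der.J3
import Cfsg.Agent.S2067
import Cfsg.Agent.H419.Spor.JModel

/-!
# S3502: the third Janko group (helper348)

An outer automorphism fixes an element of order 17, so that the two classes of elements of order 17 are not fused.
-/

set_option autoImplicit false
set_option maxRecDepth 100000

namespace Cfsg.Agent.H348.Der.JThree

open Cfsg Subgroup Cfsg.Agent.H439.Der Cfsg.Agent.H938.Sax Cfsg.Agent.H51.Der Cfsg.Agent.H940.Eng Cfsg.Agent.H940.Eng.D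

/-! ### an outer automorphism fixing an element -/

section general

variable {T : Type*} [Group T] [Finite T]

omit [Finite T] in
theorem autPow_sub {x : T} {α : MulAut T} (hα : ∀ k, α ≠ MulAut.conj k) (hO : Nat.card (Cfsg.Out T) = 2)
    (hx : α x = x) : autPow x ⊆ conjPow x := by
  rintro y ⟨hy, β, rfl⟩
  refine ⟨hy, ?_⟩
  have h2 : (Cfsg.Inn T).index = 2 := hO
  have hαI : α ∉ Cfsg.Inn T := by
    rintro ⟨k, hk⟩
    exact hα k hk.symm
  by_cases hβ : (β : MulAut T) ∈ Cfsg.Inn T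
  · obtain ⟨g, hg⟩ := hβ
    refine ⟨g, ?_⟩
    have h3 := congrArg (fun f : MulAut T => f x) hg
    exact h3
  · have h3 : (β : MulAut T) * α ∈ Cfsg.Inn T := (Subgroup.mul_mem_iff_of_index_two h2).2 (iff_of_false hβ hαI)
    obtain ⟨g, hg⟩ := h3
    refine ⟨g, ?_⟩
    have h4 := congrArg (fun f : MulAut T => f x) hg
    have h5 : g * x * g⁻¹ = β (α x) := h4
    rw [hx] at h5
    exact h5

theorem exists_not_aut_of_fix {x : T} {α : MulAut T} (hα : ∀ k, α ≠ MulAut.conj k) (hO : Nat.card (Cfsg.Out T) = 2)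
    (hx : α x = x) (h : Nat.card (conjPow x) < Nat.totient (orderOf x)) :
    ∃ y ∈ zpowers x, orderOf y = orderOf x ∧ ∀ φ : T ≃* T, φ x ≠ y := by
  by_contra hcon
  push Not at hcon
  have h1 : gens x ⊆ conjPow x := by
    rintro y ⟨hy1, hy2⟩
    exact autPow_sub hα hO hx ⟨hy1, hcon y hy1 hy2⟩
  have h2 := Set.ncard_le_ncard h1 (Set.toFinite _)
  rw [← Nat.card_coe_set_eq, ← Nat.card_coe_set_eq, card_gens] at h2
  omega

end general

/-! ### the model -/

section model

open Cfsg.Spor Cfsg.Agent.J3.Core Cfsg.Agent.J3.Elts Cfsg.Agent.J3.Nineteen Cfsg.Agent.J3.Tab Cfsg.Agent.H55.JThree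

/-- the table of the element of order 17 -/
def T17 : List ℕ := compT (compT (tA (0, 1)) (tD (1, 0))) tC

theorem chk17 : beqL (cols (powT T17 17)) (cols (tS 0)) = true := by decide +kernel
theorem ne17 : Nat.beq ((cols T17).getD (idx (0 : F9)) 0) ((cols (tS 0)).getD (idx (0 : F9)) 0) = false := by decide +kernel

theorem chk9 : beqL (cols (powT (tD (1, 0)) 9)) (cols (tS 0)) = true := by decide +kernel
theorem ne9 : ([0, 1, 2].all fun k => [(0 : F9), (0, 1), (1, 0), (1, 1)].any fun z =>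
    !(Nat.beq ((cols (powT (tD (1, 0)) 3)).getD (idx z) 0) ((cols (tS k)).getD (idx z) 0))) = true := by decide +kernel

variable {F : Type*} [Field F] [Fintype F] {ω : F}

/-- the element of order 17 -/
def x17 (G : Gens F ω) : threeJ3 F ω := G.a (0, 1) * G.d (1, 0) * G.c

omit [Fintype F] in
theorem rep17 (H : Good ω) (G : Gens F ω) : RepG ω T17 (x17 G) := by
  have ha : RepG ω (tA (0, 1)) (G.a (0, 1)) := by unfold RepG; rw [G.ha]; exact repA H _
  have hd : RepG ω (tD (1, 0)) (G.d (1, 0)) := by unfold RepG; rw [G.hd]; exact repD H _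
  have hc : RepG ω tC G.c := by unfold RepG; rw [G.hc]; exact repC H
  exact (ha.mul hd).mul hc

omit [Fintype F] in
theorem order17 (H : Good ω) (G : Gens F ω) : orderOf (x17 G) = 17 := by
  have : Fact (Nat.Prime 17) := ⟨by norm_num⟩
  refine orderOf_eq_prime (RepG.ext ((rep17 H G).pow H 17) (repG_one H) (beqL_eq chk17)) fun h => ?_
  have h1 := RepG.cols_eq H (h ▸ rep17 H G) (repG_one H) 0
  have h2 := ne17
  rw [h1, Nat.beq_refl] at h2
  exact absurd h2 (by decide)

theorem phi17 (hF : Fintype.card F = 4) (H : Good ω) (G : Gens F ω) : phi hF H (x17 G) = x17 G := by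
  apply mat_injective
  rw [mat_phi]
  unfold x17
  have e1 : -cj ((0, 1) : F9) = (0, 1) := by decide
  have e2 : cj ((1, 0) : F9) = (1, 0) := by decide
  have e3 : cj F9.one = F9.one := by decide
  rw [map_mul, map_mul, map_mul, map_mul, G.ha, G.hd, G.hc, phiM_A, phiM_D, phiM_C, e1, e2, e3]

theorem mk_ne {x : threeJ3 F ω} (hF : Fintype.card F = 4) (H : Good ω) {p : ℕ} (hp : p.Prime) (hp3 : p ≠ 3)
    (hx : orderOf x = p) : orderOf (QuotientGroup.mk x : J3 F ω) = p := by
  have := Fact.mk hp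
  refine orderOf_eq_prime ?_ ?_
  · rw [← QuotientGroup.mk_pow, ← hx, pow_orderOf_eq_one]; rfl
  · intro h
    rw [QuotientGroup.eq_one_iff] at h
    have h1 : orderOf (⟨x, h⟩ : center (threeJ3 F ω)) ∣ Nat.card (center (threeJ3 F ω)) := orderOf_dvd_natCard _
    rw [Subgroup.orderOf_mk, hx, card_center hF H] at h1
    exact hp3 ((Nat.prime_dvd_prime_iff_eq hp (by norm_num)).1 h1)

theorem order9 (hF : Fintype.card F = 4) (H : Good ω) (G : Gens F ω) :
    orderOf (QuotientGroup.mk (G.d (1, 0)) : J3 F ω) = 9 := by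
  classical
  have : Fact (Nat.Prime 3) := ⟨by norm_num⟩
  have hd : RepG ω (tD (1, 0)) (G.d (1, 0)) := by unfold RepG; rw [G.hd]; exact repD H _
  have h9 : G.d (1, 0) ^ 9 = 1 := RepG.ext (hd.pow H 9) (repG_one H) (beqL_eq chk9)
  refine orderOf_eq_prime_pow (p := 3) (n := 1) ?_ ?_
  · intro h
    rw [pow_one, ← QuotientGroup.mk_pow, QuotientGroup.eq_one_iff] at h
    obtain ⟨s, hs⟩ := exists_scalar H G
    rw [center_eq hF H hs] at h
    have hso : orderOf s = 3 := by
      have h1 := card_center hF H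
      rwa [center_eq hF H hs, Nat.card_zpowers] at h1
    obtain ⟨k, hk⟩ := (mem_zpowers_iff_mem_range_orderOf).1 h |> Finset.mem_image.1
    rw [hso] at hk
    have hk3 : k < 3 := Finset.mem_range.1 hk.1
    have hsk : RepG ω (tS k) (s ^ k) := by
      unfold RepG
      rw [map_pow, hs, smul_pow, one_pow]
      exact Cfsg.Agent.J3.Mono.repS H k hk3
    have h1 := fun z => RepG.cols_eq H (hk.2 ▸ hd.pow H 3 : RepG ω (powT (tD (1, 0)) 3) (s ^ k)) hsk z
    have h2 := ne9
    rw [List.all_eq_true] at h2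
    have h3 := h2 k (by
      simp only [List.mem_cons, List.not_mem_nil, or_false]
      omega)
    rw [List.any_eq_true] at h3
    obtain ⟨z, -, hz⟩ := h3
    rw [h1 z, Nat.beq_refl] at hz
    exact absurd hz (by decide)
  · rw [← QuotientGroup.mk_pow]
    show QuotientGroup.mk (G.d (1, 0) ^ 9) = 1
    rw [h9]; rfl

end model

/-! ### the classes -/

section row

variable {G : Type} [Group G]

open Cfsg.Spor

theorem dbl17 (B : Base) (h : Spor.IsoJ3 G) : Dbl G 17 := by
  obtain ⟨F, _, _, ω, hF, hω, ⟨e⟩⟩ := h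
  have H := Cfsg.Agent.J3.Core.good_of_card hF hω
  obtain ⟨gs⟩ := Cfsg.Agent.J3.Elts.exists_gens hF H
  have hI : Spor.IsoJ3 (J3 F ω) := Cfsg.Agent.H55.JThree.isoJ3 hF hω
  have c := Cfsg.Agent.H305.SepJ3.ctx B hI
  have := c.fin
  have hx := mk_ne hF H (by norm_num : Nat.Prime 17) (by norm_num) (order17 H gs)
  have h17 : Loc (J3 F ω) ⟨17, 17, [(2, 3), (17, 1)]⟩ := c.loc _ (by simp [Cfsg.Agent.H305.SepJ3.loc])
  have hα : ∀ k, Cfsg.Agent.H55.OutGen.centerQuot (Cfsg.Agent.H55.JThree.phi hF H) ≠ MulAut.conj k :=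
    Cfsg.Agent.H55.OutGen.centerQuot_not_inner (Cfsg.Agent.H55.JThree.hom_center hF H)
      (Cfsg.Agent.H55.JThree.phi_not_inner hF H)
  have hfix : Cfsg.Agent.H55.OutGen.centerQuot (Cfsg.Agent.H55.JThree.phi hF H) (QuotientGroup.mk (x17 gs) : J3 F ω) =
      QuotientGroup.mk (x17 gs) := by
    rw [Cfsg.Agent.H55.OutGen.centerQuot_mk, phi17]
  have hc := conjPow_le_of_loc h17 hx (n := 8) (by decide)
  obtain ⟨y, -, hy, hxy⟩ := exists_not_aut_of_fix hα (Cfsg.Agent.S2067.result hF ω hω) hfix (by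
    rw [hx, Nat.totient_prime (by norm_num)]
    omega)
  exact Dbl.congr e.symm ⟨_, y, hx, hy.trans hx, hxy⟩

theorem exists_nine (h : Spor.IsoJ3 G) : ∃ x : G, orderOf x = 9 := by
  obtain ⟨F, _, _, ω, hF, hω, ⟨e⟩⟩ := h
  have H := Cfsg.Agent.J3.Core.good_of_card hF hω
  obtain ⟨gs⟩ := Cfsg.Agent.J3.Elts.exists_gens hF H
  exact ⟨e.symm (QuotientGroup.mk (gs.d (1, 0))), (MulEquiv.orderOf_eq e.symm _).trans (order9 hF H gs)⟩

theorem exists_ord (h : Spor.IsoJ3 G) : ∀ n ∈ ({1, 2, 3, 4, 5, 6, 8, 10, 12} : Finset ℕ), ∃ g : G, orderOf g = n := by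
  obtain ⟨-, z, Q, v, ρ, n, u, D⟩ := KFacts.J3.exists_facts h
  have hfin : Finite G := Nat.finite_of_card_ne_zero (by rw [D.card_K]; norm_num)
  exact Cfsg.Agent.H419.Spor.JModel.exists_orders' D.model

theorem not_SC_of_orders {v a b : ℕ} (ha : ∃ x : G, orderOf x = a) (hb : ∃ x : G, orderOf x = b) (hva : v ∣ a)
    (hvb : v ∣ b) (hab : a ≠ b) : ¬ SC G v := by
  obtain ⟨x, hx⟩ := ha
  obtain ⟨y, hy⟩ := hb
  exact not_SC_of_two_orders (x := x) (y := y) (by rw [hx]; exact hva) (by rw [hy]; exact hvb) (by rw [hx, hy]; exact hab)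

theorem not_SC_of_dbl {v d : ℕ} (h : Dbl G d) (hv : v ∣ d) : ¬ SC G v := by
  obtain ⟨x, y, hx, hy, hxy⟩ := h
  intro hs
  obtain ⟨φ, hφ⟩ := hs x y (by rw [hx]; exact hv) (by rw [hy]; exact hv)
  exact hxy φ hφ

theorem three_J3 (B : Base) (h : Spor.IsoJ3 G) {R : Subgroup G} (hR : R ≠ ⊤) : Three G R := by
  have c := Cfsg.Agent.H305.SepJ3.ctx B h
  have := c.fin
  have := c.simple
  have ho := exists_ord h
  have hd : ∀ p, p ∣ n_j3 → p ∣ Nat.card G := fun p hp => by rw [c.card]; exact hp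
  have h17 : ¬ SC G 17 := not_SC_of_dbl (dbl17 B h) dvd_rfl
  have hSC : ∀ v ∈ [2, 3, 5, 17, 19], v ≠ 19 → ¬ SC G v := by
    intro v hv hv19
    simp only [List.mem_cons, List.not_mem_nil, or_false] at hv
    rcases hv with rfl | rfl | rfl | rfl | rfl
    · exact not_SC_of_orders (ho 2 (by simp)) (ho 4 (by simp)) (by norm_num) (by norm_num) (by norm_num)
    · exact not_SC_of_orders (ho 3 (by simp)) (ho 6 (by simp)) (by norm_num) (by norm_num) (by norm_num)
    · exact not_SC_of_orders (ho 5 (by simp)) (ho 10 (by simp)) (by norm_num) (by norm_num) (by norm_num)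
    · exact h17
    · exact absurd rfl hv19
  have hpr : ∀ w ∈ [2, 3, 5, 17, 19], w.Prime ∧ w ∣ n_j3 := by
    intro w hw
    simp only [List.mem_cons, List.not_mem_nil, or_false] at hw
    rcases hw with rfl | rfl | rfl | rfl | rfl <;> exact ⟨by norm_num, by decide⟩
  have hl : l_j3.map (fun x => x.1) = [2, 3, 5, 17, 19] := by decide
  -- the exceptional orders
  obtain ⟨x, hx, -, hxc⟩ := Cfsg.Agent.CpAutJThree.exc h
  obtain ⟨y, hy, hyc⟩ := exists_central (T := G) (p := 3) (k := 5) (by norm_num) (by norm_num) (by rw [c.card]; decide)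
  have hxy : Nat.card (centralizer ({x} : Set G)) ≠ Nat.card (centralizer ({y} : Set G)) := by
    intro he
    rw [← he, hxc] at hyc
    revert hyc
    decide
  obtain ⟨u, hu⟩ := exists_nine h
  have h19' : Fact (Nat.Prime 19) := ⟨by norm_num⟩
  obtain ⟨w, hw⟩ := exists_prime_orderOf_dvd_card' (G := G) 19 (hd _ (by decide))
  have exc : ¬ 9 ∣ Nat.card R → ¬ 19 ∣ Nat.card R → Three G R := by
    intro h9 h19
    have hz : ∀ z : G, orderOf z = 3 → (∀ φ : G ≃* G, φ z ∉ R) → Three G R := by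
      intro z hz hzR
      have k : ∀ {a b : G} {m n : ℕ}, orderOf a = m → orderOf b = n → m ≠ n → ∀ φ : G ≃* G, φ a ≠ b := by
        intro a b m n ha hb hmn φ hφ
        exact hmn (by rw [← ha, ← hb, ← hφ, orderOf_mulEquiv])
      exact ⟨z, u, w, hzR, not_mem_of_dvd h9 (by rw [hu]), not_mem_of_dvd h19 (by rw [hw]), k hz hu (by norm_num),
        k hz hw (by norm_num), k hu hw (by norm_num)⟩
    rcases class_missing (by norm_num : Nat.Prime 3) (by norm_num; exact h9) hx hy hxy with h | h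
    · exact hz x hx h
    · exact hz y hy h
  have hidx : R.index ∈ [14688, 12312, 6156, 3078] → Three G R := by
    intro h1
    simp only [List.mem_cons, List.not_mem_nil, or_false] at h1
    rcases h1 with h1 | h1 | h1 | h1
    · have h6 := card_of_index (m := 3420) c.card (by decide) (by norm_num) h1
      obtain ⟨z, hz⟩ := ho 8 (by simp)
      exact Three.of_not_SC_order (v := 17) (by rw [h6]; norm_num) h17 hz (noOrd_of_not_dvd (by rw [h6]; norm_num))
        (by norm_num)
    · have h6 := card_of_index (m := 4080) c.card (by decide) (by norm_num) h1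
      exact exc (by rw [h6]; norm_num) (by rw [h6]; norm_num)
    · have h6 := card_of_index (m := 8160) c.card (by decide) (by norm_num) h1
      exact exc (by rw [h6]; norm_num) (by rw [h6]; norm_num)
    · have h6 := card_of_index (m := 16320) c.card (by decide) (by norm_num) h1
      exact exc (by rw [h6]; norm_num) (by rw [h6]; norm_num)
  have hmiss : ∀ v ∈ [2, 3, 5, 17, 19], Three G R ∨ ∃ w ∈ [2, 3, 5, 17, 19], w ≠ v ∧ ¬ w ∣ Nat.card R := by
    intro v hv
    by_cases hc : ∃ w ∈ [2, 3, 5, 17, 19], w ≠ v ∧ ¬ w ∣ Nat.card R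
    · exact Or.inr hc
    push Not at hc
    have h1 := chkJ3
    rw [List.all_eq_true] at h1
    have hv' : v ∈ l_j3.map (fun x => x.1) := by rw [hl]; exact hv
    obtain ⟨x, hx, rfl⟩ := List.mem_map.1 hv'
    have h2 := h1 x hx
    rw [Bool.or_eq_true] at h2
    have h3 := h2.resolve_left (by simp)
    exact Or.inl (hidx (index_mem c h3 hR fun y hy hyx => hc y.1 (by rw [← hl]; exact List.mem_map.2 ⟨y, hy, rfl⟩) hyx))
  rcases hmiss 19 (by simp) with h1 | ⟨a, ha, ha19, haR⟩
  · exact h1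
  rcases hmiss a ha with h1 | ⟨b, hb, hba, hbR⟩
  · exact h1
  exact Three.of_two_primes (hpr a ha).1 (hpr b hb).1 hba.symm (hd _ (hpr b hb).2) haR hbR (hSC a ha ha19)

theorem rowS_J3 (B : Base) (h : Spor.IsoJ3 G) : RowS G := by
  have c := Cfsg.Agent.H305.SepJ3.ctx B h
  have := c.fin
  exact RowS.of_three fun M hM => three_J3 B h hM.1

end row

end Cfsg.Agent.H348.Der.JThree
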