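import Cfsg.Agent.H348.Der.Num
import Cfsg.Agent.H348.Der.Class
import Cfsg.Agent.H348.Der.Sec
import Cfsg.Agent.H51.Der.ON
import Cfsg.Agent.H51.Der.Pair
import Cfsg.Agent.H413.JOneLocal
import Cfsg.Agent.S2078

/-!
# S3502: the group of O'Nan (helper348)
-/

set_option autoImplicit false
set_option maxRecDepth 100000

namespace Cfsg.Agent.H348.Der.ONRow

open Cfsg Subgroup Cfsg.Agent.H439.Der Cfsg.Agent.H938.Sax Cfsg.Agent.H51.Der Cfsg.Agent.H940.Eng Cfsg.Agent.H940.Eng.D
open Cfsg.Agent.OrdDiv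
open Cfsg.Agent.H866.VanON (order_8 order_16 exists_J order_mul_v order_mul_f order_v order_f)
open Cfsg.Agent.H493.Sep.RowON (loc)
open Cfsg.Spor (ON)

/-! ### the first Janko group -/

theorem alt_four : ∀ b : alternatingGroup (Fin 5), b ^ 4 = 1 → b ^ 2 = 1 := by decide +kernel

theorem not_four_J1 (g : Spor.J1) : orderOf g ≠ 4 := by
  intro hg
  have ha : orderOf (g ^ 2) = 2 := by
    rw [orderOf_pow_of_dvd (by norm_num) (by rw [hg]; norm_num), hg]
  obtain ⟨e⟩ := Cfsg.Agent.H413.JOneLocal.isLocal.cent _ ha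
  have h1 : g ∈ centralizer ({g ^ 2} : Set Spor.J1) := mem_centralizer_singleton_iff.2 ((Commute.refl g).pow_right 2).eq
  have h4 : (⟨g, h1⟩ : centralizer ({g ^ 2} : Set Spor.J1)) ^ 4 = 1 := by
    apply Subtype.ext
    show g ^ 4 = 1
    rw [← hg]
    exact pow_orderOf_eq_one g
  have h5 : (e ⟨g, h1⟩) ^ 4 = 1 := by rw [← map_pow, h4, map_one]
  have h6 : (e ⟨g, h1⟩) ^ 2 = 1 := by
    generalize e ⟨g, h1⟩ = y at h5 ⊢
    obtain ⟨a, b⟩ := y
    have h7 : ∀ a : Multiplicative (ZMod 2), a ^ 2 = 1 := by decide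
    exact Prod.ext (h7 a) (alt_four b (congrArg Prod.snd h5))
  rw [← map_pow, map_eq_one_iff e e.injective] at h6
  have h7 : g ^ 2 = 1 := congrArg Subtype.val h6
  rw [h7, orderOf_one] at ha
  norm_num at ha

theorem cands_j1 : ((cands l_opn n_opn).filter fun g => Nat.beq (ordN g) 175560) = [.j1] := by decide +kernel

theorem ords_j1 : (o_opn.filter fun s => s % 209 == 0 && 175560 % s == 0) = [175560] := by decide

/-- a subgroup of order `175560` has no elements of order 4 -/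
theorem not_four_of_card (B : Base) {R : Subgroup ON} (hR : Nat.card R = 175560) (m : R) : orderOf m ≠ 4 := by
  have c := Cfsg.Agent.H493.Sep.RowON.ctx B
  have := c.fin
  have h19 : Loc ON ⟨19, 57, [(2, 1), (3, 1), (19, 1)]⟩ := c.loc _ (by simp [loc])
  obtain ⟨K, hK, S, hSn, h19K, h11K, hS, hna, h19S, h11S, h19i, h11i, -⟩ := pair_section (X := R) (p := 19) (q := 11)
    (by norm_num) (by norm_num) (by norm_num) (nonAdj_of_loc h19 (by norm_num) R) (by rw [hR]; norm_num)
    (by rw [hR]; norm_num)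
    (noOrd_of (N := 175560) (k := 1) (by rw [hR]) (by norm_num) (by decide))
    (noOrd_of (N := 175560) (k := 1) (by rw [hR]) (by norm_num) (by decide))
  have hSd : Nat.card S ∣ 175560 := hR ▸ section_dvd
  have hSG : Nat.card S ∣ n_opn := hSd.trans (by decide)
  have hmem : Nat.card S ∈ o_opn := c.ords S hS hna hSG
  have h209 : 209 ∣ Nat.card S := Nat.Coprime.mul_dvd_of_dvd_of_dvd (by norm_num : Nat.Coprime 19 11) h19S h11S
  have hfil : Nat.card S ∈ o_opn.filter fun s => s % 209 == 0 && 175560 % s == 0 := by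
    rw [List.mem_filter]
    refine ⟨hmem, ?_⟩
    rw [Bool.and_eq_true, beq_iff_eq, beq_iff_eq]
    exact ⟨Nat.mod_eq_zero_of_dvd h209, Nat.mod_eq_zero_of_dvd hSd⟩
  rw [ords_j1, List.mem_singleton] at hfil
  obtain ⟨e⟩ := section_iso (hfil.trans hR.symm)
  obtain ⟨g, hg, hr, ho⟩ := exists_good B.table (B.known S hS) hna v_opn hSG
  have h1 : g ∈ (cands l_opn n_opn).filter fun g => Nat.beq (ordN g) 175560 := by
    rw [List.mem_filter]
    exact ⟨hg, by rw [← ho, hfil]; rfl⟩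
  rw [cands_j1, List.mem_singleton] at h1
  subst h1
  obtain ⟨f⟩ := hr
  intro hm
  refine not_four_J1 (f (e m)) ?_
  rw [MulEquiv.orderOf_eq, MulEquiv.orderOf_eq, hm]

/-! ### the classes -/

theorem not_SC_mul {v p : ℕ} (hp : p.Prime) (hd : p ∣ 80640) (hp2 : p ≠ 2) (hv : v = p) : ¬ SC ON v := by
  subst hv
  obtain ⟨y, hy, hc⟩ := exists_J v hp hd
  have hodd : Odd (orderOf y) := by rw [hy]; exact hp.odd_of_ne_two hp2
  have h1 := order_mul_f hodd hc
  refine not_SC_of_two_orders (x := y) (y := y * _) (by rw [hy]) (by rw [h1, hy]; exact dvd_mul_right _ _) ?_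
  rw [h1, hy]
  have := hp.pos
  omega

theorem not_SC_two : ¬ SC ON 2 :=
  not_SC_of_two_orders (x := Cfsg.Agent.KFacts.ON.Words.v) (y := _) (by rw [order_v]; norm_num) (by rw [order_8]; norm_num)
    (by rw [order_v, order_8]; norm_num)

theorem not_SC_nineteen (B : Base) : ¬ SC ON 19 := by
  have c := Cfsg.Agent.H493.Sep.RowON.ctx B
  have := c.fin
  have h19 : Loc ON ⟨19, 57, [(2, 1), (3, 1), (19, 1)]⟩ := c.loc _ (by simp [loc])
  have h19' : Fact (Nat.Prime 19) := ⟨by norm_num⟩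
  obtain ⟨x, hx⟩ := exists_prime_orderOf_dvd_card' (G := ON) 19 (by rw [c.card]; decide)
  refine not_SC_of_lt (x := x) (by rw [hx]) ?_
  have h1 := conjPow_le_of_loc h19 hx (n := 6) (by decide)
  rw [hx, Cfsg.Agent.S2078.result, Nat.totient_prime (by norm_num)]
  omega

theorem chkEx : ((divsT [(2, 8), (3, 3), (7, 2), (11, 1), (31, 1)]).all fun d => Nat.beq (3990 * d) n_opn ||
    (Nat.beq (3990 * d) 175560 || bad l_opn n_opn [] 60 loc o_opn (3990 * d))) = true := by
  decide +kernel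

theorem three_ON (B : Base) {R : Subgroup ON} (hR : R ≠ ⊤) : Three ON R := by
  have c := Cfsg.Agent.H493.Sep.RowON.ctx B
  have := c.fin
  have := c.simple
  have hd : ∀ p, p ∣ n_opn → p ∣ Nat.card ON := fun p hp => by rw [c.card]; exact hp
  by_cases hJ : Nat.card R = 175560
  · have h31' : Fact (Nat.Prime 31) := ⟨by norm_num⟩
    obtain ⟨x, hx⟩ := exists_prime_orderOf_dvd_card' (G := ON) 31 (hd _ (by decide))
    refine Three.of_orders (a := 31) (b := 16) (c := 4) (by norm_num) (by norm_num) (by norm_num) hx order_16 order_v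
      (noOrd_of_not_dvd (by rw [hJ]; norm_num)) (noOrd_of_not_dvd (by rw [hJ]; norm_num)) ?_
    intro m hm h4
    exact not_four_of_card B hJ ⟨m, hm⟩ (by rw [Subgroup.orderOf_mk]; exact h4)
  -- two missing primes
  have key : ∀ v w : ℕ, v.Prime → w.Prime → v ≠ w → w ∣ n_opn → ¬ v ∣ Nat.card R → ¬ w ∣ Nat.card R → ¬ SC ON v →
      Three ON R := fun v w hv hw hvw h2 h3 h4 h => Three.of_two_primes hv hw hvw (hd _ h2) h3 h4 h
  have hidx : ∀ v : ℕ, v ∈ [2, 3, 5, 7, 11, 19, 31] → ∃ w ∈ [2, 3, 5, 7, 11, 19, 31], w ≠ v ∧ ¬ w ∣ Nat.card R := by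
    intro v hv
    by_contra hcon
    push Not at hcon
    have hl : l_opn.map (fun x => x.1) = [2, 3, 5, 7, 11, 19, 31] := by decide
    have h1 := chkON
    rw [List.all_eq_true] at h1
    have hv' : v ∈ l_opn.map (fun x => x.1) := by rw [hl]; exact hv
    obtain ⟨x, hx, rfl⟩ := List.mem_map.1 hv'
    have h2 := h1 x hx
    rw [Bool.or_eq_true] at h2
    have h3 := h2.resolve_left (by simp)
    have h4 := index_mem c h3 hR fun y hy hyx => hcon y.1 (by rw [← hl]; exact List.mem_map.2 ⟨y, hy, rfl⟩) hyx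
    rw [List.mem_singleton] at h4
    have h5 := card_mul_index R
    rw [c.card, h4, show n_opn = 175560 * 2624832 by decide] at h5
    exact hJ (Nat.eq_of_mul_eq_mul_right (by norm_num) h5)
  have hpr : ∀ w ∈ [2, 3, 5, 7, 11, 19, 31], w.Prime ∧ w ∣ n_opn := by
    intro w hw
    simp only [List.mem_cons, List.not_mem_nil, or_false] at hw
    rcases hw with rfl | rfl | rfl | rfl | rfl | rfl | rfl <;> exact ⟨by norm_num, by decide⟩
  have fin : ∀ v ∈ [2, 3, 5, 7, 11, 19, 31], ¬ SC ON v → ¬ v ∣ Nat.card R → Three ON R := by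
    intro v hv hs hn
    obtain ⟨w, hw, hwv, hwR⟩ := hidx v hv
    exact key v w (hpr v hv).1 (hpr w hw).1 hwv.symm (hpr w hw).2 hn hwR hs
  by_cases h2 : 2 ∣ Nat.card R
  swap
  · exact fin 2 (by simp) not_SC_two h2
  by_cases h3 : 3 ∣ Nat.card R
  swap
  · exact fin 3 (by simp) (not_SC_mul (by norm_num) (by norm_num) (by norm_num) rfl) h3
  by_cases h5 : 5 ∣ Nat.card R
  swap
  · exact fin 5 (by simp) (not_SC_mul (by norm_num) (by norm_num) (by norm_num) rfl) h5
  by_cases h7 : 7 ∣ Nat.card R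
  swap
  · exact fin 7 (by simp) (not_SC_mul (by norm_num) (by norm_num) (by norm_num) rfl) h7
  by_cases h19 : 19 ∣ Nat.card R
  swap
  · exact fin 19 (by simp) (not_SC_nineteen B) h19
  -- all the primes except 11 and 31 divide
  exfalso
  have hL : 3990 ∣ Nat.card R := by
    have h := Nat.Coprime.mul_dvd_of_dvd_of_dvd (m := 2) (n := 3) (by norm_num) h2 h3
    have h := Nat.Coprime.mul_dvd_of_dvd_of_dvd (m := 2 * 3) (n := 5) (by norm_num) h h5
    have h := Nat.Coprime.mul_dvd_of_dvd_of_dvd (m := 2 * 3 * 5) (n := 7) (by norm_num) h h7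
    exact Nat.Coprime.mul_dvd_of_dvd_of_dvd (m := 2 * 3 * 5 * 7) (n := 19) (by norm_num) h h19
  exact hJ (Nat.eq_of_beq_eq_true (exhaust_dvd c 3990 [(2, 8), (3, 3), (7, 2), (11, 1), (31, 1)] 60
    (fun m => Nat.beq m 175560) (by decide) (by decide) chkEx hR hL))

theorem rowS_ON (B : Base) : RowS ON := by
  have c := Cfsg.Agent.H493.Sep.RowON.ctx B
  have := c.fin
  exact RowS.of_three fun M hM => three_ON B hM.1

end Cfsg.Agent.H348.Der.ONRow
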