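import Cfsg.Agent.H439.Der.Three
import Cfsg.Agent.H439.Der.Tools
import Cfsg.Agent.H123.Der.Base

/-!
# Tools for the rows of S3502: splitting of the generators of a cyclic subgroup (helper348)

* `autPow x` : the elements of `⟨x⟩` that are `Aut T`-conjugate to `x`; `|autPow x| ≤ |Out T| * |conjPow x|`
* `exists_not_aut`, `exists_not_aut_two` : two, three generators of `⟨x⟩`, pairwise not `Aut T`-conjugate
* `not_SC_of_lt`, `not_SCC_of_lt`, `not_SCC_of_split`, `three_of_two` ...
-/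

set_option autoImplicit false

namespace Cfsg.Agent.H348.Der

open Subgroup Cfsg.Agent.H439.Der Cfsg.Agent.H938.Sax Cfsg.Agent.H123.Der

variable {T : Type*} [Group T]

/-- the elements of `⟨x⟩` that are `Aut T`-conjugate to `x` -/
def autPow (x : T) : Set T := {y | y ∈ zpowers x ∧ ∃ φ : T ≃* T, φ x = y}

theorem zpowers_eq_of_mem [Finite T] {x y : T} (hy : y ∈ zpowers x) (h : orderOf y = orderOf x) :
    zpowers y = zpowers x := by
  refine Subgroup.eq_of_le_of_card_ge (zpowers_le.2 hy) ?_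
  rw [Nat.card_zpowers, Nat.card_zpowers, h]

theorem card_autPow_le [Finite T] (x : T) :
    Nat.card (autPow x) ≤ Nat.card (Cfsg.Out T) * Nat.card (conjPow x) := by
  classical
  have : Finite (MulAut T) := Finite.of_injective (fun f : MulAut T => (f : T → T)) DFunLike.coe_injective
  have := Fintype.ofFinite T
  have := Fintype.ofFinite (Cfsg.Out T)
  let P : Finset T := Finset.univ.filter fun y => y ∈ autPow x
  have hP : P.card = Nat.card (autPow x) := by
    rw [Nat.card_eq_fintype_card, Fintype.card_subtype]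
  have hmem : ∀ y ∈ P, y ∈ zpowers x ∧ ∃ φ : T ≃* T, φ x = y := by
    intro y hy
    exact (Finset.mem_filter.1 hy).2
  have hord : ∀ y ∈ P, orderOf y = orderOf x := by
    intro y hy
    obtain ⟨φ, rfl⟩ := (hmem y hy).2
    exact orderOf_mulEquiv φ x
  have hφ : ∀ y : T, ∃ φ : MulAut T, y ∈ P → φ x = y := by
    intro y
    by_cases hy : y ∈ P
    · obtain ⟨φ, hφ⟩ := (hmem y hy).2
      exact ⟨φ, fun _ => hφ⟩
    · exact ⟨1, fun h => absurd h hy⟩
  choose φ hφ using hφ
  rw [← hP, mul_comm, Nat.card_eq_fintype_card (α := Cfsg.Out T)]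
  refine Finset.card_le_mul_card_image_of_maps_to (f := fun y => (QuotientGroup.mk (φ y) : Cfsg.Out T))
    (t := Finset.univ) (fun _ _ => Finset.mem_univ _) _ ?_
  intro c _
  rcases Finset.eq_empty_or_nonempty (P.filter fun y => (QuotientGroup.mk (φ y) : Cfsg.Out T) = c) with h0 | ⟨y0, hy0⟩
  · rw [h0]; exact Nat.zero_le _
  rw [Finset.mem_filter] at hy0
  have hy0z : y0 ∈ zpowers x := (hmem y0 hy0.1).1
  have hz0 : zpowers y0 = zpowers x := zpowers_eq_of_mem hy0z (hord y0 hy0.1)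
  have hxy0 : x ∈ zpowers y0 := by rw [hz0]; exact mem_zpowers x
  obtain ⟨m, hm⟩ := mem_zpowers_iff.1 hxy0
  rw [← Set.ncard_coe_finset, ← Nat.card_coe_set_eq]
  have hconj : ∀ y ∈ P.filter (fun y => (QuotientGroup.mk (φ y) : Cfsg.Out T) = c), ∃ g : T, g * y0 * g⁻¹ = y := by
    intro y hy
    rw [Finset.mem_filter] at hy
    have h1 : (QuotientGroup.mk (φ y0) : Cfsg.Out T) = QuotientGroup.mk (φ y) := by rw [hy0.2, hy.2]
    rw [QuotientGroup.eq] at h1
    obtain ⟨g, hg⟩ := h1
    have h2 : φ y x = φ y0 (g * x * g⁻¹) := by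
      have : φ y = φ y0 * MulAut.conj g := by
        have hg' : MulAut.conj g = (φ y0)⁻¹ * φ y := hg
        rw [hg', mul_inv_cancel_left]
      rw [this]; rfl
    refine ⟨φ y0 g, ?_⟩
    rw [← hφ y hy.1, h2, map_mul, map_mul, map_inv, hφ y0 hy0.1]
  refine Nat.card_le_card_of_injective
    (fun y : ((P.filter fun y => (QuotientGroup.mk (φ y) : Cfsg.Out T) = c : Finset T) : Set T) =>
      (⟨(y : T) ^ m, ?_, ?_⟩ : conjPow x)) ?_
  · have hy := y.2
    rw [Finset.mem_coe, Finset.mem_filter] at hy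
    exact zpow_mem (hmem _ hy.1).1 m
  · obtain ⟨g, hg⟩ := hconj y y.2
    refine ⟨g, ?_⟩
    rw [← hg, conj_zpow, hm]
  · intro a b hab
    have h1 : (a : T) ^ m = (b : T) ^ m := congrArg Subtype.val hab
    have hmem' : ∀ z : ((P.filter fun y => (QuotientGroup.mk (φ y) : Cfsg.Out T) = c : Finset T) : Set T),
        (z : T) ∈ zpowers y0 := by
      intro z
      have hz := z.2
      rw [Finset.mem_coe, Finset.mem_filter] at hz
      rw [hz0]
      exact (hmem _ hz.1).1
    obtain ⟨i, hi⟩ := mem_zpowers_iff.1 (hmem' a)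
    obtain ⟨j, hj⟩ := mem_zpowers_iff.1 (hmem' b)
    have h2 : x ^ i = x ^ j := by
      rw [← hm, ← zpow_mul, ← zpow_mul, mul_comm m, mul_comm m, zpow_mul, zpow_mul, hi, hj, h1]
    have hv0 : orderOf x = orderOf y0 := (hord y0 hy0.1).symm
    apply Subtype.ext
    rw [← hi, ← hj]
    rw [zpow_eq_zpow_iff_modEq] at h2 ⊢
    rwa [← hv0]

theorem centralizer_singleton_eq (x : T) : centralizer ({x} : Set T) = centralizer ((zpowers x : Subgroup T) : Set T) := by
  rw [zpowers_eq_closure, centralizer_closure]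

theorem card_conjPow_eq [Finite T] {x y : T} (hy : y ∈ zpowers x) (h : orderOf y = orderOf x) :
    Nat.card (conjPow y) = Nat.card (conjPow x) := by
  have h1 := card_conjPow_mul x
  have h2 := card_conjPow_mul y
  have hz := zpowers_eq_of_mem hy h
  rw [centralizer_singleton_eq, hz, ← centralizer_singleton_eq] at h2
  have h3 : 0 < Nat.card (centralizer ({x} : Set T)) := Nat.card_pos
  exact Nat.eq_of_mul_eq_mul_right h3 (h2.trans h1.symm)

/-- the generators of `⟨x⟩` -/
def gens (x : T) : Set T := {y | y ∈ zpowers x ∧ orderOf y = orderOf x}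

theorem card_gens [Finite T] (x : T) : Nat.card (gens x) = Nat.totient (orderOf x) := by
  classical
  have h1 : Nat.card {a : zpowers x // orderOf a = orderOf x} = Nat.totient (orderOf x) := by
    have := Fintype.ofFinite T
    have := Fintype.ofFinite (zpowers x)
    have h2 := IsCyclic.card_orderOf_eq_totient (α := zpowers x) (d := orderOf x)
      (by rw [← Nat.card_eq_fintype_card, Nat.card_zpowers])
    rw [Nat.card_eq_fintype_card, Fintype.card_subtype]
    exact h2
  rw [← h1]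
  refine Nat.card_congr ⟨fun y => ⟨⟨y.1, y.2.1⟩, by rw [← Subgroup.orderOf_coe]; exact y.2.2⟩,
    fun a => ⟨a.1.1, a.1.2, by rw [Subgroup.orderOf_coe]; exact a.2⟩, fun _ => rfl, fun _ => rfl⟩

/-- two generators, not `Aut T`-conjugate -/
theorem exists_not_aut [Finite T] {x : T}
    (h : Nat.card (Cfsg.Out T) * Nat.card (conjPow x) < Nat.totient (orderOf x)) :
    ∃ y ∈ zpowers x, orderOf y = orderOf x ∧ ∀ φ : T ≃* T, φ x ≠ y := by
  by_contra hcon
  push Not at hcon
  have h1 : gens x ⊆ autPow x := by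
    rintro y ⟨hy1, hy2⟩
    exact ⟨hy1, hcon y hy1 hy2⟩
  have h2 := Set.ncard_le_ncard h1 (Set.toFinite _)
  rw [← Nat.card_coe_set_eq, ← Nat.card_coe_set_eq, card_gens] at h2
  have h3 := card_autPow_le x
  omega

/-- three generators, pairwise not `Aut T`-conjugate -/
theorem exists_not_aut_two [Finite T] {x : T}
    (h : 2 * (Nat.card (Cfsg.Out T) * Nat.card (conjPow x)) < Nat.totient (orderOf x)) :
    ∃ y ∈ zpowers x, ∃ z ∈ zpowers x, orderOf y = orderOf x ∧ orderOf z = orderOf x ∧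
      (∀ φ : T ≃* T, φ x ≠ y) ∧ (∀ φ : T ≃* T, φ x ≠ z) ∧ ∀ φ : T ≃* T, φ y ≠ z := by
  obtain ⟨y, hy1, hy2, hy3⟩ := exists_not_aut (x := x) (by omega)
  by_contra hcon
  push Not at hcon
  have h1 : gens x ⊆ autPow x ∪ autPow y := by
    rintro z ⟨hz1, hz2⟩
    by_cases hz3 : ∃ φ : T ≃* T, φ x = z
    · exact Or.inl ⟨hz1, hz3⟩
    · push Not at hz3
      refine Or.inr ⟨?_, hcon y hy1 z hz1 hy2 hz2 hy3 hz3⟩
      rw [zpowers_eq_of_mem hy1 hy2]
      exact hz1
  have h2 := Set.ncard_le_ncard h1 (Set.toFinite _)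
  have h3 := Set.ncard_union_le (autPow x) (autPow y)
  rw [← Nat.card_coe_set_eq, card_gens] at h2
  rw [← Nat.card_coe_set_eq (autPow x), ← Nat.card_coe_set_eq (autPow y)] at h3
  have h4 := card_autPow_le x
  have h5 := card_autPow_le y
  rw [card_conjPow_eq hy1 hy2] at h5
  omega

theorem not_SC_of_lt [Finite T] {v : ℕ} {x : T} (hx : v ∣ orderOf x)
    (h : Nat.card (Cfsg.Out T) * Nat.card (conjPow x) < Nat.totient (orderOf x)) : ¬ SC T v := by
  obtain ⟨y, -, hy2, hy3⟩ := exists_not_aut h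
  intro hs
  obtain ⟨φ, hφ⟩ := hs x y hx (by rwa [hy2])
  exact hy3 φ hφ

theorem not_SCC_of_lt [Finite T] {v : ℕ} {x : T} (hx : v ∣ orderOf x)
    (h : 2 * (Nat.card (Cfsg.Out T) * Nat.card (conjPow x)) < Nat.totient (orderOf x)) : ¬ SCC T v := by
  obtain ⟨y, -, z, -, hy, hz, h1, h2, h3⟩ := exists_not_aut_two h
  exact not_SCC_of_three hx (by rwa [hy]) (by rwa [hz]) h1 h2 h3

/-- two classes of generators, and another element order -/
theorem not_SCC_of_split [Finite T] {v : ℕ} {x z : T} (hx : v ∣ orderOf x) (hz : v ∣ orderOf z)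
    (hxz : orderOf x ≠ orderOf z)
    (h : Nat.card (Cfsg.Out T) * Nat.card (conjPow x) < Nat.totient (orderOf x)) : ¬ SCC T v := by
  obtain ⟨y, -, hy2, hy3⟩ := exists_not_aut h
  refine not_SCC_of_three hx (by rwa [hy2]) hz hy3 (fun φ hφ => hxz ?_) (fun φ hφ => hxz ?_)
  · rw [← hφ, orderOf_mulEquiv]
  · rw [← hy2, ← hφ, orderOf_mulEquiv]

/-- numeric bound of `conjPow` by the orders of the centralizer and the normalizer -/
theorem card_conjPow_of [Finite T] {x : T} {c n : ℕ} (hC : Nat.card (centralizer ({x} : Set T)) = c)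
    (hN : Nat.card (normalizer (zpowers x : Set T)) = n * c) : Nat.card (conjPow x) = n := by
  have h1 := card_conjPow_mul x
  rw [hC, hN] at h1
  have hc : 0 < c := by rw [← hC]; exact Nat.card_pos
  exact Nat.eq_of_mul_eq_mul_right hc h1

/-- three missing pairwise non-conjugate elements, two of them given by `SC`-failure -/
theorem Three.of_pair {R : Subgroup T} {x y z : T} (hx : ∀ φ : T ≃* T, φ x ∉ R) (hy : ∀ φ : T ≃* T, φ y ∉ R)
    (hz : ∀ φ : T ≃* T, φ z ∉ R) (hxy : ∀ φ : T ≃* T, φ x ≠ y) (hxz : orderOf x ≠ orderOf z)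
    (hyz : orderOf y ≠ orderOf z) : Three T R :=
  ⟨x, y, z, hx, hy, hz, hxy, fun φ hφ => hxz (by rw [← hφ, orderOf_mulEquiv]),
    fun φ hφ => hyz (by rw [← hφ, orderOf_mulEquiv])⟩

/-- a missing element order -/
theorem not_mem_of_order {R : Subgroup T} {z : T} {c : ℕ} (hz : orderOf z = c) (hc : ∀ m ∈ R, orderOf m ≠ c)
    (φ : T ≃* T) : φ z ∉ R := fun h => hc _ h (by rw [orderOf_mulEquiv, hz])

/-- an order not dividing `|R|` -/
theorem noOrd_of_not_dvd {R : Subgroup T} {c : ℕ} (h : ¬ c ∣ Nat.card R) : ∀ m ∈ R, orderOf m ≠ c := by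
  intro m hm hc
  exact h (hc ▸ Subgroup.orderOf_dvd_natCard R hm)

end Cfsg.Agent.H348.Der
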