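import Cfsg.Agent.H602.Der.Tools

/-!
# A group of order 25 acting on a 2-group (helper348)

`W` of order 25 normalizes a 2-subgroup `S`, `|S| ≤ 64`, no involution commutes with `W`, and `e ∈ S` is an involution:
`|S| = 16`, `S` commutes with `e` and with an element `x ∈ W` of order 5.
-/

set_option autoImplicit false

namespace Cfsg.Agent.H348.Der.FiveAct

open Subgroup Cfsg.Agent.H602.Der

variable {T : Type*} [Group T] [Finite T]

omit [Finite T] in
theorem comm_of_card {W : Subgroup T} (hW : Nat.card W = 25) {a b : T} (ha : a ∈ W) (hb : b ∈ W) : a * b = b * a := by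
  have : Fact (Nat.Prime 5) := ⟨by norm_num⟩
  have h1 := (IsPGroup.isMulCommutative_of_card_eq_prime_sq (p := 5) (G := W) (by rw [hW]; norm_num)).is_comm.comm
    ⟨a, ha⟩ ⟨b, hb⟩
  exact congrArg Subtype.val h1

/-- fixed-point-free action -/
theorem mod_of_fix {W A : Subgroup T} (hW : Nat.card W = 25) (hA : ∀ w ∈ W, ∀ a ∈ A, w * a * w⁻¹ ∈ A)
    (hfix : ∀ a ∈ A, a ≠ 1 → ¬ ∀ w ∈ W, w * a = a * w) : Nat.card A % 5 = 1 := by
  have h1 : 5 ∣ Nat.card ((A : Set T) \ {1} : Set T) := by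
    refine dvd_ncard W ((A : Set T) \ {1}) (d := 5) ?_ ?_
    · intro w hw a ha
      refine ⟨hA w hw a ha.1, fun h => ha.2 ?_⟩
      have h2 : w * a * w⁻¹ = 1 := h
      have h3 : a = w⁻¹ * (w * a * w⁻¹) * w := by group
      rw [h3, h2]
      show w⁻¹ * 1 * w = 1
      group
    · intro a ha
      have h2 : Nat.card ↥(W ⊓ centralizer ({a} : Set T)) ∣ 5 ^ 2 := by
        have h3 : Nat.card ↥(W ⊓ centralizer ({a} : Set T)) ∣ Nat.card W := card_dvd_of_le inf_le_left
        rwa [hW, show 25 = 5 ^ 2 by norm_num] at h3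
      obtain ⟨k, hk, hk'⟩ := (Nat.dvd_prime_pow (by norm_num : Nat.Prime 5)).1 h2
      have hk1 : k ≤ 1 := by
        by_contra hk2
        have hk3 : k = 2 := by omega
        rw [hk3] at hk'
        have h4 : W ⊓ centralizer ({a} : Set T) = W := by
          apply eq_of_le_of_card_ge inf_le_left
          rw [hk', hW]
          norm_num
        refine hfix a ha.1 (fun h => ha.2 h) fun w hw => ?_
        rw [← h4] at hw
        exact mem_centralizer_singleton_iff.1 hw.2
      rw [hk', hW]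
      exact (Nat.mul_dvd_mul_left 5 (pow_dvd_pow 5 hk1)).trans (by norm_num)
  have h2 : Nat.card ((A : Set T) \ {1} : Set T) + 1 = Nat.card A := by
    rw [Nat.card_coe_set_eq]
    have h3 : ((A : Set T) \ {1}).ncard + 1 = (A : Set T).ncard :=
      Set.ncard_sdiff_singleton_add_one (one_mem A) (Set.toFinite _)
    rw [h3]
    rfl
  omega

theorem two_power {A : Subgroup T} (h2 : IsPGroup 2 A) (hne : A ≠ ⊥) (h64 : Nat.card A ≤ 64)
    (hm : Nat.card A % 5 = 1) : Nat.card A = 16 := by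
  obtain ⟨j, hj⟩ := h2.exists_card_eq
  have hj0 : j ≠ 0 := by
    rintro rfl
    rw [pow_zero] at hj
    exact hne (Subgroup.eq_bot_of_card_eq _ hj)
  have hj6 : j ≤ 6 := by
    by_contra h7
    have h3 := Nat.pow_le_pow_right (show 0 < 2 by norm_num) (show 7 ≤ j by omega)
    omega
  rw [hj] at hm ⊢
  interval_cases j <;> omega

theorem exists_order {p : ℕ} [Fact p.Prime] {A : Subgroup T} (h : IsPGroup p A) (hne : A ≠ ⊥) :
    ∃ a ∈ A, orderOf a = p := by
  obtain ⟨j, hj⟩ := h.exists_card_eq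
  have hj0 : j ≠ 0 := by
    rintro rfl
    rw [pow_zero] at hj
    exact hne (Subgroup.eq_bot_of_card_eq _ hj)
  obtain ⟨a, ha⟩ := exists_prime_orderOf_dvd_card' (G := A) p (by rw [hj]; exact dvd_pow_self p hj0)
  exact ⟨a, a.2, by rw [Subgroup.orderOf_coe, ha]⟩

theorem main {W S : Subgroup T} (hW : Nat.card W = 25) (hS : IsPGroup 2 S) (hn : ∀ w ∈ W, ∀ s ∈ S, w * s * w⁻¹ ∈ S)
    (h64 : Nat.card S ≤ 64) (hinv : ∀ t : T, orderOf t = 2 → ¬ 25 ∣ Nat.card (centralizer ({t} : Set T)))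
    {e : T} (he : e ∈ S) (he1 : e ≠ 1) :
    Nat.card S = 16 ∧ (∃ x ∈ W, orderOf x = 5 ∧ ∀ s ∈ S, s * x = x * s) ∧ ∀ s ∈ S, s * e = e * s := by
  have h5 : Fact (Nat.Prime 5) := ⟨by norm_num⟩
  have h2 : Fact (Nat.Prime 2) := ⟨by norm_num⟩
  -- no element of `S` commutes with `W`
  have hfix : ∀ a ∈ S, a ≠ 1 → ¬ ∀ w ∈ W, w * a = a * w := by
    intro a ha ha1 hc
    obtain ⟨b, hb, hbo⟩ := exists_order (p := 2) (hS.to_le (zpowers_le.2 ha)) (fun h => ha1 (zpowers_eq_bot.1 h))
    obtain ⟨k, rfl⟩ := mem_zpowers_iff.1 hb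
    apply hinv _ hbo
    rw [← hW]
    refine card_dvd_of_le fun w hw => mem_centralizer_singleton_iff.2 ?_
    exact ((show Commute w a from hc w hw).zpow_right _).eq
  have key : ∀ A : Subgroup T, A ≤ S → (∀ w ∈ W, ∀ a ∈ A, w * a * w⁻¹ ∈ A) → A ≠ ⊥ → Nat.card A = 16 := by
    intro A hAS hAn hne
    refine two_power (hS.to_le hAS) hne ((card_le_of_le hAS).trans h64) ?_
    exact mod_of_fix hW hAn fun a ha => hfix a (hAS ha)
  have hne : ∀ A : Subgroup T, e ∈ A → A ≠ ⊥ := fun A hA h => he1 (by rwa [h, mem_bot] at hA)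
  have h16 := key S le_rfl hn (hne S he)
  -- the stabilizer of `e`
  have h3 : W ⊓ centralizer ({e} : Set T) ≠ ⊥ := by
    intro hb
    have hinj : Function.Injective (fun w : W => (⟨(w : T) * e * (w : T)⁻¹, hn w w.2 e he⟩ : S)) := by
      intro a b hab
      have h4 : (a : T) * e * (a : T)⁻¹ = (b : T) * e * (b : T)⁻¹ := congrArg Subtype.val hab
      have h5 : (b : T)⁻¹ * a ∈ W ⊓ centralizer ({e} : Set T) := by
        refine ⟨W.mul_mem (W.inv_mem b.2) a.2, mem_centralizer_singleton_iff.2 ?_⟩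
        calc (b : T)⁻¹ * a * e = (b : T)⁻¹ * ((a : T) * e * (a : T)⁻¹) * a := by group
          _ = (b : T)⁻¹ * ((b : T) * e * (b : T)⁻¹) * a := by rw [h4]
          _ = e * ((b : T)⁻¹ * a) := by group
      rw [hb, mem_bot] at h5
      exact Subtype.ext (inv_mul_eq_one.1 h5).symm
    have h4 := Nat.card_le_card_of_injective _ hinj
    omega
  have hW5 : IsPGroup 5 W := IsPGroup.of_card (n := 2) (by rw [hW]; norm_num)
  obtain ⟨x, hx, hxo⟩ := exists_order (p := 5) (hW5.to_le inf_le_left) h3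
  have hxe : x * e = e * x := mem_centralizer_singleton_iff.1 hx.2
  -- `C_S(x) = S`
  have h4 : S ⊓ centralizer ({x} : Set T) = S := by
    apply eq_of_le_of_card_ge inf_le_left
    rw [key (S ⊓ centralizer ({x} : Set T)) inf_le_left ?_ (hne _ ⟨he, mem_centralizer_singleton_iff.2 hxe.symm⟩), h16]
    rintro w hw a ⟨ha, hax⟩
    refine ⟨hn w hw a ha, mem_centralizer_singleton_iff.2 ?_⟩
    have hax' : Commute a x := mem_centralizer_singleton_iff.1 hax
    have hwx : Commute w x := comm_of_card hW hw hx.1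
    exact ((hwx.mul_left hax').mul_left hwx.inv_left).eq
  -- the center of `S`
  have h6 : (center S).map S.subtype = S := by
    apply eq_of_le_of_card_ge (map_subtype_le _)
    have hS1 : Nontrivial S := ⟨⟨⟨e, he⟩, 1, fun h => he1 (congrArg Subtype.val h)⟩⟩
    have hc := hS.center_nontrivial
    rw [key ((center S).map S.subtype) (map_subtype_le _) ?_ ?_, h16]
    · rintro w hw _ ⟨z, hz, rfl⟩
      refine ⟨⟨w * z * w⁻¹, hn w hw z z.2⟩, ?_, rfl⟩
      rw [SetLike.mem_coe, mem_center_iff] at hz ⊢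
      intro g
      have hg : w⁻¹ * (g : T) * w ∈ S := by
        have h7 := hn w⁻¹ (W.inv_mem hw) g g.2
        rwa [inv_inv] at h7
      have h8 : (w⁻¹ * (g : T) * w) * z = z * (w⁻¹ * (g : T) * w) := congrArg Subtype.val (hz ⟨_, hg⟩)
      apply Subtype.ext
      show (g : T) * (w * z * w⁻¹) = (w * z * w⁻¹) * g
      calc (g : T) * (w * z * w⁻¹) = w * ((w⁻¹ * (g : T) * w) * z) * w⁻¹ := by group
        _ = w * (z * (w⁻¹ * (g : T) * w)) * w⁻¹ := by rw [h8]
        _ = (w * z * w⁻¹) * g := by group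
    · intro hb
      rw [Subgroup.map_eq_bot_iff_of_injective _ S.subtype_injective] at hb
      exact (Subgroup.nontrivial_iff_ne_bot _).1 hc hb
  refine ⟨h16, ⟨x, hx.1, hxo, fun s hs => ?_⟩, fun s hs => ?_⟩
  · rw [← h4] at hs
    exact mem_centralizer_singleton_iff.1 hs.2
  · have he' := he
    rw [← h6] at he'
    obtain ⟨z, hz, hze⟩ := he'
    have h7 := mem_center_iff.1 hz ⟨s, hs⟩
    have h8 : s * (z : T) = z * s := congrArg Subtype.val h7
    have h9 : (z : T) = e := hze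
    rwa [h9] at h8

end Cfsg.Agent.H348.Der.FiveAct
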