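import Cfsg.Agent.H348.Der.Class
import Cfsg.Agent.H51.Der.He
import Cfsg.Agent.H147.Fpr.He

/-!
# S3502: the Held group (helper348)
-/

set_option autoImplicit false
set_option maxRecDepth 100000

namespace Cfsg.Agent.H348.Der.HeRow

open Cfsg Subgroup Cfsg.Agent.H439.Der Cfsg.Agent.H938.Sax Cfsg.Agent.H51.Der Cfsg.Agent.H940.Eng Cfsg.Agent.H940.Eng.D
open Cfsg.Agent.H70.HeCoat (G cardG finG)
open Cfsg.Spor.He (Gen)
open Cfsg.Agent.SporadicB.HePerm Cfsg.Agent.FixBN.HeStab Cfsg.Agent.KFacts.He.Lv Cfsg.Agent.CpAutHe.Cnt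
open Cfsg.Agent.CpAutHe.Bound
open Cfsg.Agent.H436
open Cfsg.Agent.CpAutHe.Seven (x0 x1 order0 order1 x1_half)

/-- an element of order 3 commuting with `x0` -/
def W3 : List Gen := [.b, .d, .c, .d, .c, .g, .d, .c, .g, .d, .g, .c, .d, .c, .d, .g]

theorem chkW : chkB (pw W3 3) [] = true := by decide +kernel
theorem chkWX : chkB (W3 ++ X0) (X0 ++ W3) = true := by decide +kernel
theorem chkAB : chkB (pw [.a, .b] 4) [] = true := by decide +kernel
theorem chkABX : chkB ([.a, .b] ++ X0) (X0 ++ [.a, .b]) = true := by decide +kernel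
theorem chkT : chkB (pw X1h 14) [] = true := by decide +kernel

theorem orderW : orderOf (wd W3) = 3 :=
  HeFive.orderOf_wd (by norm_num) chkW (Cfsg.Agent.CpAutHe.Seven.ne_one_of_act 0 (by decide +kernel))

theorem orderAB : orderOf (wd [.a, .b]) = 4 := by
  have h1 : wd [Gen.a, .b] ^ 4 = 1 := by
    have h := eq_of_chkB chkAB
    rwa [wd_pw, wd_nil] at h
  have h2 : wd [Gen.a, .b] ^ 2 ≠ 1 := by
    rw [← wd_pw]
    exact Cfsg.Agent.CpAutHe.Seven.ne_one_of_act 5 (by decide +kernel)
  exact orderOf_eq_prime_pow (p := 2) (n := 1) (by simpa using h2) (by simpa using h1)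

theorem commW : wd W3 * x0 = x0 * wd W3 := by
  have h := eq_of_chkB chkWX
  rwa [wd_append, wd_append] at h

theorem commAB : wd [.a, .b] * x0 = x0 * wd [.a, .b] := by
  have h := eq_of_chkB chkABX
  rwa [wd_append, wd_append] at h

/-- the order of a product of commuting elements of coprime orders -/
theorem orderOf_mul_comm {T : Type*} [Group T] {x y : T} {a b : ℕ} (h : x * y = y * x) (hx : orderOf x = a)
    (hy : orderOf y = b) (hab : Nat.Coprime a b) : orderOf (x * y) = a * b := by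
  rw [(show Commute x y from h).orderOf_mul_eq_mul_orderOf_of_coprime (by rw [hx, hy]; exact hab), hx, hy]

theorem exists_fourteen : ∃ x : G, orderOf x = 14 := by
  refine ⟨wd X1h, ?_⟩
  have h1 : orderOf (wd X1h) ∣ 14 := by
    apply orderOf_dvd_of_pow_eq_one
    have h := eq_of_chkB chkT
    rwa [wd_pw, wd_nil] at h
  have h7 : 7 ∣ orderOf (wd X1h) := by
    rw [← order1, x1_half]
    exact orderOf_pow_dvd 2
  have h2 : wd X1h ^ 7 ≠ 1 := by
    rw [← wd_pw]
    exact Cfsg.Agent.CpAutHe.Seven.ne_one_of_act 0 (by decide +kernel)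
  obtain ⟨k, hk⟩ := h7
  rw [hk] at h1 ⊢
  have h3 : k ∣ 2 := Nat.dvd_of_mul_dvd_mul_left (by norm_num : 0 < 7) h1
  rcases (Nat.dvd_prime Nat.prime_two).1 h3 with rfl | rfl
  · exact absurd (by rw [← mul_one 7, ← hk]; exact pow_orderOf_eq_one _) h2
  · rfl

theorem not_SCC_five : ¬ SCC G 5 := by
  have h1 := orderOf_mul_comm HeFive.commA HeFive.orderA HeFive.orderX (by norm_num)
  have h2 := orderOf_mul_comm HeFive.commQ HeFive.orderQ HeFive.orderX (by norm_num)
  exact not_SCC_of_orders (x := wd HeFive.X) (y := wd [.a] * wd HeFive.X) (z := wd HeFive.Q * wd HeFive.X)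
    (by rw [HeFive.orderX]) (by rw [h1]; norm_num) (by rw [h2]; norm_num) (by rw [HeFive.orderX, h1]; norm_num)
    (by rw [HeFive.orderX, h2]; norm_num) (by rw [h1, h2]; norm_num)

theorem not_SCC_seven : ¬ SCC G 7 := by
  obtain ⟨y, hy⟩ := exists_fourteen
  have h2 := orderOf_mul_comm commW orderW order0 (by norm_num)
  exact not_SCC_of_orders (x := x0) (y := y) (z := wd W3 * x0)
    (by rw [order0]) (by rw [hy]; norm_num) (by rw [h2]; norm_num) (by rw [order0, hy]; norm_num)
    (by rw [order0, h2]; norm_num) (by rw [hy, h2]; norm_num)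

/-- three elements of order 7 with centralizers of different orders -/
theorem exists_three : ∃ x y z : G, orderOf x = 7 ∧ orderOf y = 7 ∧ orderOf z = 7 ∧
    Nat.card (centralizer ({x} : Set G)) ≠ Nat.card (centralizer ({y} : Set G)) ∧
    Nat.card (centralizer ({x} : Set G)) ≠ Nat.card (centralizer ({z} : Set G)) ∧
    Nat.card (centralizer ({y} : Set G)) ≠ Nat.card (centralizer ({z} : Set G)) := by
  have := finG
  have h49 : 7 ^ 2 ∣ Nat.card G := by rw [cardG]; decide
  obtain ⟨z, hz, hzc⟩ := exists_central (T := G) (p := 7) (k := 3) (by norm_num) (by norm_num) (by rw [cardG]; decide)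
  have h0 := card0
  have h1 := card1
  have h03 : 3 ∣ Nat.card (centralizer ({x0} : Set G)) := by
    have h := cent_dvd commW
    rwa [orderW] at h
  have h04 : 4 ∣ Nat.card (centralizer ({x0} : Set G)) := by
    have h := cent_dvd commAB
    rwa [orderAB] at h
  have h049 : 49 ∣ Nat.card (centralizer ({x0} : Set G)) := sq_dvd_cent (T := G) (by norm_num) h49 order0
  have h588 : 588 ∣ Nat.card (centralizer ({x0} : Set G)) :=
    Nat.Coprime.mul_dvd_of_dvd_of_dvd (m := 12) (n := 49) (by norm_num)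
      (Nat.Coprime.mul_dvd_of_dvd_of_dvd (m := 3) (n := 4) (by norm_num) h03 h04) h049
  have h588' := Nat.le_of_dvd Nat.card_pos h588
  have h343 := Nat.le_of_dvd Nat.card_pos hzc
  have h0' : Nat.card (centralizer ({x0} : Set G)) ≤ 1176 := h0
  have h1' : Nat.card (centralizer ({x1} : Set G)) ≤ 196 := h1
  refine ⟨x0, x1, z, order0, order1, hz, ?_, ?_, ?_⟩
  · omega
  · intro he
    rw [← he] at hzc
    have h4 : 4 * 7 ^ 3 ∣ Nat.card (centralizer ({x0} : Set G)) :=
      Nat.Coprime.mul_dvd_of_dvd_of_dvd (by norm_num) h04 hzc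
    have h5 := Nat.le_of_dvd Nat.card_pos h4
    omega
  · omega

theorem three_He (B : Base) {M : Subgroup G} (hM : M ≠ ⊤) : Three G M := by
  have c := Cfsg.Agent.H70.RowHe.ctx B
  have := c.fin
  have := c.simple
  by_cases h5 : 5 ∣ Nat.card M
  swap
  · exact Three.of_not_dvd h5 not_SCC_five ⟨_, by rw [HeFive.orderX]⟩
  by_cases h7 : 7 ∣ Nat.card M
  swap
  · exact Three.of_not_dvd h7 not_SCC_seven ⟨_, by rw [order0]⟩
  by_cases h17 : 17 ∣ Nat.card M
  · exact absurd (Cfsg.Agent.H147.Fpr.He.top_of B h17 h7) hM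
  obtain ⟨x, y, z, hx, hy, hz, hxy, hxz, hyz⟩ := exists_three
  obtain ⟨a, b, ha, hb, haM, hbM, hab⟩ := two_missing (by norm_num) (not_sq B h5 h7 h17) hx hy hz hxy hxz hyz
  have h17' : Fact (Nat.Prime 17) := ⟨by norm_num⟩
  obtain ⟨w, hw⟩ := exists_prime_orderOf_dvd_card' (G := G) 17 (by rw [cardG]; decide)
  refine ⟨a, b, w, haM, hbM, not_mem_of_dvd h17 (by rw [hw]), hab, fun φ hφ => ?_, fun φ hφ => ?_⟩
  · have h : orderOf (φ a) = 7 := (orderOf_mulEquiv φ a).trans ha
    rw [hφ, hw] at h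
    norm_num at h
  · have h : orderOf (φ b) = 7 := (orderOf_mulEquiv φ b).trans hb
    rw [hφ, hw] at h
    norm_num at h

theorem rowS_He (B : Base) : RowS G := by
  have c := Cfsg.Agent.H70.RowHe.ctx B
  have := c.fin
  exact RowS.of_three fun M hM => three_He B hM.1

end Cfsg.Agent.H348.Der.HeRow
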