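import Cfsg.Agent.H348.Der.Base
import Cfsg.Agent.H257.El.Row.J4
import Cfsg.Agent.S2068

/-!
# The row of `J₄` of S3502 (helper348)

Every proper subgroup misses 43 or 37; both have three classes.
-/

set_option autoImplicit false

namespace Cfsg.Agent.H348.Der

open Subgroup Cfsg Cfsg.Agent.OrdDiv Cfsg.Agent.H257.El Cfsg.Agent.H439.Der Cfsg.Agent.H123.Der

universe u

/-- a Sylow subgroup of prime order: centralizer and normalizer of an element -/
theorem card_of_sylow {T : Type*} [Group T] [Finite T] {r n : ℕ} [hr : Fact r.Prime] (h1 : r ∣ Nat.card T)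
    (h2 : ¬ r ^ 2 ∣ Nat.card T) (h : ∀ U : Sylow r T, centralizer ((U : Subgroup T) : Set T) = (U : Subgroup T) ∧
      Nat.card ↥(normalizer ((U : Subgroup T) : Set T)) = r * n)
    {x : T} (hx : orderOf x = r) : Nat.card (centralizer ({x} : Set T)) = r ∧
      Nat.card (normalizer (zpowers x : Set T)) = n * r := by
  have hp : IsPGroup r (zpowers x) := IsPGroup.of_card (n := 1) (by rw [Nat.card_zpowers, hx, pow_one])
  obtain ⟨U, hU⟩ := hp.exists_le_sylow
  have hUc : Nat.card U = r := by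
    have h5 := Top.card_sylow_of U (a := 1) (by rw [pow_one]; exact h1) h2
    rwa [pow_one] at h5
  have hUe : zpowers x = U := by
    apply Subgroup.eq_of_le_of_card_ge hU
    rw [hUc, Nat.card_zpowers, hx]
  obtain ⟨h3, h4⟩ := h U
  rw [← hUe] at h3 h4
  rw [zpowers_eq_closure, centralizer_closure, ← zpowers_eq_closure] at h3
  refine ⟨?_, ?_⟩
  · rw [h3, Nat.card_zpowers, hx]
  · rw [h4, mul_comm]

theorem not_SCC_of_sylow {T : Type*} [Group T] [Finite T] {r n : ℕ} [hr : Fact r.Prime] (h1 : r ∣ Nat.card T)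
    (h2 : ¬ r ^ 2 ∣ Nat.card T) (h : ∀ U : Sylow r T, centralizer ((U : Subgroup T) : Set T) = (U : Subgroup T) ∧
      Nat.card ↥(normalizer ((U : Subgroup T) : Set T)) = r * n)
    (hn : 2 * (Nat.card (Cfsg.Out T) * n) < r - 1) : ¬ SCC T r := by
  obtain ⟨x, hx⟩ := exists_prime_orderOf_dvd_card' r h1
  obtain ⟨h3, h4⟩ := card_of_sylow h1 h2 h hx
  refine not_SCC_of_lt (x := x) (by rw [hx]) ?_
  rwa [card_conjPow_of h3 h4, hx, Nat.totient_prime hr.out]

theorem three_j4 (tab : OrderTable.{u}) (known : Known.{u}) {T : Type u} [Group T] [Finite T] (h : Spor.IsoJ4 T)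
    {R : Subgroup T} (hR : R ≠ ⊤) : Three T R := by
  have hc := NotCT.Orders.j4 h
  have hJ := H337.isOfJankoFourType_of_isoJ4 h
  obtain ⟨e⟩ := h
  have hs : IsSimpleGroup T := e.isSimpleGroup_congr.2 Cfsg.Agent.S1703.result.1
  have hna : ¬ IsMulCommutative T := by
    intro hm
    let _ : CommGroup T := { (inferInstance : Group T) with mul_comm := fun a b => hm.is_comm.comm a b }
    have h1 : (Nat.card T).Prime := IsSimpleGroup.prime_card
    rw [hc] at h1
    exact absurd h1 (by norm_num)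
  obtain ⟨-, -, -, h37, h43⟩ := S5577.result hna hJ
  have f43 : Fact (Nat.Prime 43) := ⟨by norm_num⟩
  have f37 : Fact (Nat.Prime 37) := ⟨by norm_num⟩
  have hO : Nat.card (Cfsg.Out T) = 1 := by rw [card_out_congr e]; exact S2068.result
  have d43 : 43 ∣ Nat.card T := by rw [hc]; norm_num
  have d37 : 37 ∣ Nat.card T := by rw [hc]; norm_num
  have q43 : ¬ 43 ^ 2 ∣ Nat.card T := by rw [hc]; norm_num
  have q37 : ¬ 37 ^ 2 ∣ Nat.card T := by rw [hc]; norm_num
  obtain ⟨x, hx⟩ := exists_prime_orderOf_dvd_card' 43 d43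
  obtain ⟨y, hy⟩ := exists_prime_orderOf_dvd_card' 37 d37
  by_cases h1 : 43 ∣ Nat.card R
  swap
  · exact Three.of_not_dvd h1 (not_SCC_of_sylow d43 q43 h43 (by rw [hO]; norm_num)) ⟨x, by rw [hx]⟩
  by_cases h2 : 37 ∣ Nat.card R
  swap
  · exact Three.of_not_dvd h2 (not_SCC_of_sylow d37 q37 h37 (by rw [hO]; norm_num)) ⟨y, by rw [hy]⟩
  exact (false_of_pair tab known (r := 43) (s := 37)
    [(2, 21), (3, 3), (5, 1), (7, 1), (11, 3), (23, 1), (29, 1), (31, 1), (37, 1), (43, 1)] hc
    (by norm_num) (by norm_num)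
    (noOrd_of_cent (by norm_num) (fun x hx => (card_of_sylow d43 q43 h43 hx).1) (by norm_num) (by norm_num))
    (by decide +kernel) hR h1 h2).elim

theorem rowS_j4_of (tab : OrderTable.{u}) (known : Known.{u}) {T : Type u} [Group T] [Finite T]
    (h : Spor.IsoJ4 T) : RowS T :=
  RowS.of_three fun _ hM => three_j4 tab known h hM.1

end Cfsg.Agent.H348.Der
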