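import Cfsg.Agent.H348.Der.Num
import Cfsg.Agent.H348.Der.Class
import Cfsg.Agent.H348.Der.Sec
import Cfsg.Agent.H51.Der.Ru
import Cfsg.Agent.H257.El.Top
import Cfsg.Agent.H153.ZerosRu
import Cfsg.Agent.CpAutRuFive.Main
import Cfsg.Agent.H161.G2Main

/-!
# S3502: the Rudvalis group (helper348)
-/

set_option autoImplicit false
set_option maxRecDepth 100000
set_option exponentiation.threshold 5000

namespace Cfsg.Agent.H348.Der.RuRow

open Cfsg Subgroup Cfsg.Agent.H439.Der Cfsg.Agent.H938.Sax Cfsg.Agent.H51.Der Cfsg.Agent.H940.Eng Cfsg.Agent.H940.Eng.D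
open Cfsg.Agent.OrdDiv
open Cfsg.Agent.SporadicB.RuOrder (H)
open Cfsg.Agent.H148.Ru (loc)
open Cfsg.Agent.H153.Zeros.RuCls (data data_primes data_chk hasOrd_of_chk)
open Cfsg.Agent.RuD.Letters (ml)
open Cfsg.Agent.SporRec.TCUpperCert (wprod)

theorem exists_order {n : ℕ} (h : (data.any fun d => Nat.beq d.2.1 n) = true) : ∃ x : H, orderOf x = n := by
  obtain ⟨d, hd, hn⟩ := List.any_eq_true.1 h
  have h2 := List.all_eq_true.1 data_chk
  exact ⟨_, (hasOrd_of_chk (data_primes d hd) (h2 d hd)).1.trans (Nat.eq_of_beq_eq_true hn)⟩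

theorem not_SC_of {v a b : ℕ} (ha : (data.any fun d => Nat.beq d.2.1 a) = true)
    (hb : (data.any fun d => Nat.beq d.2.1 b) = true) (hva : v ∣ a) (hvb : v ∣ b) (hab : a ≠ b) : ¬ SC H v := by
  obtain ⟨x, hx⟩ := exists_order ha
  obtain ⟨y, hy⟩ := exists_order hb
  exact not_SC_of_two_orders (x := x) (y := y) (by rw [hx]; exact hva) (by rw [hy]; exact hvb) (by rw [hx, hy]; exact hab)

theorem chkA : ((divsT [(2, 13), (3, 2), (5, 2), (29, 1)]).all fun d => Nat.beq (2730 * d) n_ru ||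
    ((!(Nat.beq ((2730 * d) % 29) 0) && (!(Nat.beq ((2730 * d) % 25) 0) || Nat.beq ((2730 * d) % 251596800) 0)) ||
      bad l_ru n_ru [] 60 loc o_ru (2730 * d))) = true := by
  decide +kernel

theorem ords_g : (o_ru.filter fun s => s % 2275 == 0 && s % 29 != 0) = [251596800] := by decide

theorem cands_g : ((cands l_ru n_ru).filter fun g => Nat.beq (ordN g) 251596800) = [.g2 4] := by decide +kernel

/-! ### the elements of order 5 -/

theorem exists_five : ∃ x y : H, orderOf x = 5 ∧ orderOf y = 5 ∧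
    Nat.card (centralizer ({x} : Set H)) ≠ Nat.card (centralizer ({y} : Set H)) := by
  have hfin : Finite H := Cfsg.Agent.H148.Ru.fin
  obtain ⟨y, hy, hyc⟩ := exists_central (T := H) (p := 5) (k := 3) (by norm_num) (by norm_num)
    (by rw [Cfsg.Agent.H148.Ru.card]; decide)
  refine ⟨wprod ml Cfsg.Agent.CpAutRuFive.Cert.wB, y, Cfsg.Agent.CpAutRuFive.orderB, hy, fun he => ?_⟩
  have h1 := Cfsg.Agent.CpAutRuFive.cardB
  rw [← he] at hyc
  -- the element `8` of order 3
  have hd := data_chk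
  rw [List.all_eq_true] at hd
  have h3 : orderOf (wprod ml [8] : H) = 3 := by
    have hm : (([8], 3, 10, [3]) : List ℕ × ℕ × ℕ × List ℕ) ∈ data := by simp [data]
    exact (hasOrd_of_chk (data_primes _ hm) (hd _ hm)).1
  have hc : (wprod ml [8] : H) * wprod ml Cfsg.Agent.CpAutRuFive.Cert.wB =
      wprod ml Cfsg.Agent.CpAutRuFive.Cert.wB * wprod ml [8] := by
    have h := Cfsg.Agent.KFacts.Ru.eq_of_chkEq (u := [8] ++ Cfsg.Agent.CpAutRuFive.Cert.wB)
      (v := Cfsg.Agent.CpAutRuFive.Cert.wB ++ [8]) (by decide +kernel)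
    rwa [Cfsg.Agent.SporRec.TCUpperCert.wprod_append, Cfsg.Agent.SporRec.TCUpperCert.wprod_append] at h
  have h4 := cent_dvd hc
  rw [h3] at h4
  have h5 : 3 * 5 ^ 3 ∣ Nat.card (centralizer ({(wprod ml Cfsg.Agent.CpAutRuFive.Cert.wB : H)} : Set H)) :=
    Nat.Coprime.mul_dvd_of_dvd_of_dvd (by norm_num) h4 hyc
  have h6 := (Nat.le_of_dvd Nat.card_pos h5).trans h1
  norm_num at h6

/-! ### no section `G₂(4)` -/

theorem no_g2 (B : Base) {R : Subgroup H} (hR : 251596800 ∣ Nat.card R) (h29 : ¬ 29 ∣ Nat.card R) : False := by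
  have c := Cfsg.Agent.H148.Ru.ctx B
  have := c.fin
  have h7 : Loc H ⟨7, 28, [(2, 3), (3, 1), (7, 1)]⟩ := c.loc _ (by simp [loc])
  have h13 : Loc H ⟨13, 52, [(2, 4), (3, 1), (13, 1)]⟩ := c.loc _ (by simp [loc])
  have hRG : Nat.card R ∣ n_ru := c.card ▸ card_subgroup_dvd_card R
  have hdv : ∀ {k}, k ∣ 251596800 → k ∣ Nat.card R := fun h => h.trans hR
  obtain ⟨O, hO, N, hT⟩ := Cfsg.Agent.H257.El.exists_top (R := R) (r := 13) (by norm_num) (hdv (by norm_num))
    (fun h => absurd (h.trans hRG) (by decide))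
  have hno : ∀ {q : ℕ}, ¬ q ∣ 52 → ∀ z : R, orderOf z ≠ 13 * q := fun hq z hz => (nonAdj_of_loc h13 hq R) ⟨z, hz⟩
  have hord : ∀ {q k : ℕ}, ¬ q ^ (k + 1) ∣ n_ru → ((List.range k).all fun i => Nat.blt (q ^ (i + 1) % 13) 1 ||
      Nat.blt 1 (q ^ (i + 1) % 13)) = true → ∀ b, 1 ≤ b → q ^ b ∣ Nat.card R → q ^ b % 13 ≠ 1 := by
    intro q k h1 h2 b hb hd h3
    have hbk : b ≤ k := by
      by_contra hlt
      push Not at hlt
      exact h1 ((pow_dvd_pow q hlt).trans (hd.trans hRG))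
    rw [List.all_eq_true] at h2
    have h4 := h2 (b - 1) (List.mem_range.2 (by omega))
    rw [Nat.sub_add_cancel hb, h3] at h4
    exact absurd h4 (by decide)
  have hN7 : 7 ∣ Nat.card N := hT.dvd_simple (s := 7) (by norm_num) (by norm_num) (hno (by norm_num))
    (hord (k := 1) (by decide) (by decide)) (by norm_num) (hdv (by norm_num))
  have hN25 : 5 ^ 2 ∣ Nat.card N := hT.pow_dvd_iff (s := 5) (by norm_num) (by norm_num) (hno (by norm_num))
    (hord (k := 3) (by decide) (by decide)) (by norm_num) (hdv (by norm_num))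
  have hSR : Nat.card N ∣ Nat.card R := section_dvd
  have h2275 : 2275 ∣ Nat.card N := by
    have h := Nat.Coprime.mul_dvd_of_dvd_of_dvd (m := 5 ^ 2) (n := 7) (by norm_num) hN25 hN7
    exact Nat.Coprime.mul_dvd_of_dvd_of_dvd (m := 5 ^ 2 * 7) (n := 13) (by norm_num) h hT.dvd
  have hS := hT.simple
  have hna : ¬ ∀ a b : N, a * b = b * a := by
    intro hab
    let _ : CommGroup N := { (inferInstance : Group N) with mul_comm := hab }
    have h3 : (Nat.card N).Prime := IsSimpleGroup.prime_card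
    have h4 := (Nat.prime_dvd_prime_iff_eq (by norm_num : Nat.Prime 7) h3).1 hN7
    have h5 := (Nat.prime_dvd_prime_iff_eq (by norm_num : Nat.Prime 13) h3).1 hT.dvd
    omega
  have hmem : Nat.card N ∈ o_ru := c.ords N hS hna (hSR.trans hRG)
  have hfil : Nat.card N ∈ o_ru.filter fun s => s % 2275 == 0 && s % 29 != 0 := by
    rw [List.mem_filter]
    refine ⟨hmem, ?_⟩
    rw [Bool.and_eq_true, beq_iff_eq, bne_iff_ne]
    exact ⟨Nat.mod_eq_zero_of_dvd h2275, fun h => h29 ((Nat.dvd_of_mod_eq_zero h).trans hSR)⟩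
  rw [ords_g, List.mem_singleton] at hfil
  obtain ⟨g, hg, hr, ho⟩ := exists_good B.table (B.known N hS) hna v_ru (hSR.trans hRG)
  have h1 : g ∈ (cands l_ru n_ru).filter fun g => Nat.beq (ordN g) 251596800 := by
    rw [List.mem_filter]
    exact ⟨hg, by rw [← ho, hfil]; rfl⟩
  rw [cands_g, List.mem_singleton] at h1
  subst h1
  obtain ⟨F, i1, i2, hF, ⟨e⟩⟩ := hr
  have h2 : Fact (Nat.Prime 2) := ⟨by norm_num⟩
  obtain ⟨x, hx⟩ := Cfsg.Agent.H161.G2Main.lower (F := F) (p := 2) (n := 2) (by norm_num) (by rw [hF]; norm_num)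
    (by norm_num) (N := 21) (Or.inr (Or.inr (Or.inr (Or.inl (by norm_num)))))
  have hx' : orderOf (e.symm x) = 21 := (MulEquiv.orderOf_eq e.symm x).trans hx
  obtain ⟨m, hm⟩ := section_lift (e.symm x)
  rw [hx'] at hm
  obtain ⟨k, hk⟩ := hm
  have hk0 : k ≠ 0 := by
    rintro rfl
    exact (orderOf_pos m).ne' (by rw [hk, mul_zero])
  refine nonAdj_of_loc h7 (q := 3) (by norm_num) R ⟨m ^ k, ?_⟩
  rw [orderOf_pow_of_dvd hk0 (by rw [hk]; exact dvd_mul_left _ _), hk, Nat.mul_div_cancel _ (Nat.pos_of_ne_zero hk0)]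
  show 21 = 7 * 3
  norm_num

/-! ### the row -/

theorem not_SC_29 (B : Base) : ¬ SC H 29 := by
  have c := Cfsg.Agent.H148.Ru.ctx B
  have := c.fin
  refine not_SC_of_loc (fN := [(2, 1), (7, 1), (29, 1)]) (n := 14) (o := 1) (c.loc _ (by simp [loc]))
    (by decide) (by rw [c.card]; decide) ?_ (by norm_num)
  rw [card_out_congr Cfsg.Agent.RuLat.Main.equiv.symm]
  exact Cfsg.Agent.S2077.result.le

theorem three_Ru (B : Base) {R : Subgroup H} (hR : R ≠ ⊤) : Three H R := by
  have c := Cfsg.Agent.H148.Ru.ctx B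
  have := c.fin
  have := c.simple
  have hd : ∀ p, p ∣ n_ru → p ∣ Nat.card H := fun p hp => by rw [c.card]; exact hp
  have hSC : ∀ v ∈ [2, 3, 5, 7, 13, 29], ¬ SC H v := by
    intro v hv
    simp only [List.mem_cons, List.not_mem_nil, or_false] at hv
    rcases hv with rfl | rfl | rfl | rfl | rfl | rfl
    · exact not_SC_of (a := 2) (b := 4) (by decide) (by decide) (by norm_num) (by norm_num) (by norm_num)
    · exact not_SC_of (a := 3) (b := 6) (by decide) (by decide) (by norm_num) (by norm_num) (by norm_num)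
    · exact not_SC_of (a := 5) (b := 10) (by decide) (by decide) (by norm_num) (by norm_num) (by norm_num)
    · exact not_SC_of (a := 7) (b := 14) (by decide) (by decide) (by norm_num) (by norm_num) (by norm_num)
    · exact not_SC_of (a := 13) (b := 26) (by decide) (by decide) (by norm_num) (by norm_num) (by norm_num)
    · exact not_SC_29 B
  have hpr : ∀ w ∈ [2, 3, 5, 7, 13, 29], w.Prime ∧ w ∣ n_ru := by
    intro w hw
    simp only [List.mem_cons, List.not_mem_nil, or_false] at hw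
    rcases hw with rfl | rfl | rfl | rfl | rfl | rfl <;> exact ⟨by norm_num, by decide⟩
  have key : ∀ v ∈ [2, 3, 5, 7, 13, 29], ∀ w ∈ [2, 3, 5, 7, 13, 29], v ≠ w → ¬ v ∣ Nat.card R → ¬ w ∣ Nat.card R →
      Three H R := fun v hv w hw hvw h3 h4 =>
    Three.of_two_primes (hpr v hv).1 (hpr w hw).1 hvw (hd _ (hpr w hw).2) h3 h4 (hSC v hv)
  have hl : l_ru.map (fun x => x.1) = [2, 3, 5, 7, 13, 29] := by decide
  by_cases hJ : Nat.card R = 12180
  · obtain ⟨z, hz⟩ := exists_order (n := 8) (by decide)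
    exact Three.of_not_SC_order (v := 13) (by rw [hJ]; norm_num) (hSC 13 (by simp)) hz
      (noOrd_of_not_dvd (by rw [hJ]; norm_num)) (by norm_num)
  -- a missing prime except 29
  have fin : ∀ v ∈ [2, 3, 5, 7, 13, 29], v ≠ 29 → ¬ v ∣ Nat.card R → Three H R := by
    intro v hv hv29 hn
    by_cases h : ∃ w ∈ [2, 3, 5, 7, 13, 29], v ≠ w ∧ ¬ w ∣ Nat.card R
    · obtain ⟨w, hw, hvw, hwR⟩ := h
      exact key v hv w hw hvw hn hwR
    exfalso
    push Not at h
    have h1 := chkRu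
    rw [List.all_eq_true] at h1
    have hv' : v ∈ l_ru.map (fun x => x.1) := by rw [hl]; exact hv
    obtain ⟨x, hx, rfl⟩ := List.mem_map.1 hv'
    have h2 := h1 x hx
    rw [Bool.or_eq_true] at h2
    have h3 := h2.resolve_left (by simpa using hv29)
    have h4 := index_mem c h3 hR fun y hy hyx => h y.1 (by rw [← hl]; exact List.mem_map.2 ⟨y, hy, rfl⟩) hyx.symm
    rw [List.mem_singleton] at h4
    have h5 := card_mul_index R
    rw [c.card, h4, show n_ru = 12180 * 11980800 by decide] at h5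
    exact hJ (Nat.eq_of_mul_eq_mul_right (by norm_num) h5)
  by_cases h2 : 2 ∣ Nat.card R
  swap
  · exact fin 2 (by simp) (by norm_num) h2
  by_cases h3 : 3 ∣ Nat.card R
  swap
  · exact fin 3 (by simp) (by norm_num) h3
  by_cases h5 : 5 ∣ Nat.card R
  swap
  · exact fin 5 (by simp) (by norm_num) h5
  by_cases h7 : 7 ∣ Nat.card R
  swap
  · exact fin 7 (by simp) (by norm_num) h7
  by_cases h13 : 13 ∣ Nat.card R
  swap
  · exact fin 13 (by simp) (by norm_num) h13
  have hL : 2730 ∣ Nat.card R := by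
    have h := Nat.Coprime.mul_dvd_of_dvd_of_dvd (m := 2) (n := 3) (by norm_num) h2 h3
    have h := Nat.Coprime.mul_dvd_of_dvd_of_dvd (m := 2 * 3) (n := 5) (by norm_num) h h5
    have h := Nat.Coprime.mul_dvd_of_dvd_of_dvd (m := 2 * 3 * 5) (n := 7) (by norm_num) h h7
    exact Nat.Coprime.mul_dvd_of_dvd_of_dvd (m := 2 * 3 * 5 * 7) (n := 13) (by norm_num) h h13
  have hP := exhaust_dvd c 2730 [(2, 13), (3, 2), (5, 2), (29, 1)] 60
    (fun m => !(Nat.beq (m % 29) 0) && (!(Nat.beq (m % 25) 0) || Nat.beq (m % 251596800) 0)) (by decide) (by decide)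
    chkA hR hL
  rw [Bool.and_eq_true, Bool.or_eq_true] at hP
  have h29 : ¬ 29 ∣ Nat.card R := not_dvd_of_filter hP.1
  rcases hP.2 with h | h
  · have h25 : ¬ 5 ^ 2 ∣ Nat.card R := not_dvd_of_filter h
    obtain ⟨x, y, hx, hy, hxy⟩ := exists_five
    have hz : ∀ z : H, orderOf z = 5 → (∀ φ : H ≃* H, φ z ∉ R) → Three H R := fun z hz h =>
      Three.of_not_SC h29 (not_SC_29 B) h (by rw [hz]; norm_num)
    rcases class_missing (by norm_num) h25 hx hy hxy with h | h
    · exact hz x hx h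
    · exact hz y hy h
  · exact absurd (Nat.dvd_of_mod_eq_zero (Nat.eq_of_beq_eq_true h)) fun h => no_g2 B h h29

theorem rowS_Ru (B : Base) : RowS H := by
  have c := Cfsg.Agent.H148.Ru.ctx B
  have := c.fin
  exact RowS.of_three fun M hM => three_Ru B hM.1

end Cfsg.Agent.H348.Der.RuRow
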