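import Cfsg.Agent.H348.Der.JThree
import Cfsg.Agent.H348.Der.JFour
import Cfsg.Agent.H348.Der.ONan
import Cfsg.Agent.H348.Der.Rudv
import Cfsg.Agent.H348.Der.He
import Cfsg.Agent.OrdDiv.Table
import Cfsg.Agent.S0000

/-!
# The rows of `J₃`, `J₄`, `O'N`, `Ru`, `He` of S3502 (helper348, task 2992)
-/

set_option autoImplicit false

namespace Cfsg.Agent.H348.Der

open Cfsg Cfsg.Agent.H439.Der Cfsg.Agent.H940.Eng

theorem base : Base := ⟨Cfsg.Agent.OrdDiv.table, fun _ _ _ _ => Cfsg.Agent.S0000.result⟩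

theorem rowS_j3 {T : Type*} [Group T] [Finite T] (h : Cfsg.Spor.IsoJ3 T) : RowS T := by
  obtain ⟨F, _, _, ω, hF, hω, ⟨e⟩⟩ := h
  exact RowS.congr e.symm (JThree.rowS_J3 base (Cfsg.Agent.H55.JThree.isoJ3 hF hω))

theorem rowS_j4 {T : Type*} [Group T] [Finite T] (h : Cfsg.Spor.IsoJ4 T) : RowS T := by
  obtain ⟨e⟩ := h
  have : Finite Spor.J4 := Finite.of_equiv T e.toEquiv
  exact RowS.congr e.symm (rowS_j4_of base.table (fun _ _ _ hs => base.known _ hs) ⟨MulEquiv.refl _⟩)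

theorem rowS_on {T : Type*} [Group T] [Finite T] (h : Cfsg.Spor.IsoON T) : RowS T := by
  obtain ⟨e⟩ := h
  exact RowS.congr e.symm (ONRow.rowS_ON base)

theorem rowS_ru {T : Type*} [Group T] [Finite T] (h : Cfsg.Spor.IsoRu T) : RowS T := by
  obtain ⟨e⟩ := h
  exact RowS.congr (e.trans Cfsg.Agent.RuLat.Main.equiv).symm (RuRow.rowS_Ru base)

theorem rowS_he {T : Type*} [Group T] [Finite T] (h : Cfsg.Spor.IsoHe T) : RowS T := by
  obtain ⟨e⟩ := h
  exact RowS.congr e.symm (HeRow.rowS_He base)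

end Cfsg.Agent.H348.Der
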