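import Cfsg.Agent.H348.Der.SuzRow
import Cfsg.Agent.OrdDiv.Table
import Cfsg.Agent.S0000

/-!
# The row of `Suz` of S3502 (helper348)
-/

set_option autoImplicit false

namespace Cfsg.Agent.H348.Der

open Cfsg Cfsg.Agent.H439.Der

universe u

theorem rowS_suz {T : Type u} [Group T] (h : Cfsg.Spor.IsoSuz T) : RowS T :=
  SuzRow.rowS_of Cfsg.Agent.OrdDiv.table (fun _ _ _ _ => Cfsg.Agent.S0000.result) h

end Cfsg.Agent.H348.Der
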