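import Cfsg.Agent.H348.Der.Class
import Cfsg.Agent.H257.El.Eng
import Cfsg.Agent.H245.SuzInv
import Cfsg.Agent.H812.SuzSeven
import Cfsg.Agent.H812.SuzFive
import Cfsg.Agent.H99.SuzFive

/-!
# Local facts on the Suzuki group (helper348)

* `not_25` : no involution commutes with a Sylow 5-subgroup;
* `card_le_four` : `t` an involution commuting with an element of order 7, `x` of order 5 commuting with `t`: a 2-subgroup
  commuting with `t` and `x` has order at most 4;
* `exists_five` : two elements of order 5 with different centralizer orders;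
* `four_group` : an involution and an element of order 3 commuting with an element of order 7 generate `A₄`.
-/

set_option autoImplicit false
set_option maxRecDepth 100000

namespace Cfsg.Agent.H348.Der.SuzFacts

open Subgroup Cfsg Cfsg.Spor
open Cfsg.Agent.SporadicRecognition.SuzOrder Cfsg.Agent.SuzThree.CentA
  Cfsg.Agent.SuzThree.QZero Cfsg.Agent.KFacts.SuzLFour Cfsg.Agent.KFacts.SuzTwoB Cfsg.Agent.H812.SuzLoc

theorem card_cent_map {G H : Type*} [Group G] [Group H] (e : G ≃* H) (x : G) :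
    Nat.card (centralizer ({x} : Set G)) = Nat.card (centralizer ({e x} : Set H)) := by
  refine Nat.card_congr ?_
  exact
    { toFun := fun w => ⟨e w, by
        have h3 := mem_centralizer_singleton_iff.1 w.2
        rw [mem_centralizer_singleton_iff, ← map_mul, ← map_mul, h3]⟩
      invFun := fun w => ⟨e.symm w, by
        have h3 := mem_centralizer_singleton_iff.1 w.2
        rw [mem_centralizer_singleton_iff]
        apply e.injective
        rw [map_mul, map_mul, e.apply_symm_apply, h3]⟩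
      left_inv := fun w => Subtype.ext (e.symm_apply_apply _)
      right_inv := fun w => Subtype.ext (e.apply_symm_apply _) }

theorem card_suz : Nat.card Suz = 448345497600 := SporadicRecognition.SuzOrder.card_Suz

theorem card_cases {T : Type*} [Group T] (h : IsoSuz T) {t : T} (ht : orderOf t = 2) :
    Nat.card (centralizer ({t} : Set T)) = 3317760 ∨ Nat.card (centralizer ({t} : Set T)) = 161280 := by
  obtain ⟨e⟩ := h
  rw [card_cent_map e t]
  have h1 : orderOf (e t) = 2 := by rw [MulEquiv.orderOf_eq, ht]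
  refine H245.SuzInv.card_cent (e t) (fun h2 => ?_) ?_
  · rw [h2, orderOf_one] at h1
    norm_num at h1
  · rw [← pow_two, ← h1, pow_orderOf_eq_one]

theorem not_25 {T : Type*} [Group T] (h : IsoSuz T) {t : T} (ht : orderOf t = 2) :
    ¬ 25 ∣ Nat.card (centralizer ({t} : Set T)) := by
  rcases card_cases h ht with h1 | h1 <;> rw [h1] <;> norm_num

theorem exists_conj_e0 {t : Suz} (ht : orderOf t = 2) (h7 : 7 ∣ Nat.card (centralizer ({t} : Set Suz))) :
    ∃ g : Suz, g * e0 * g⁻¹ = t := by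
  have ht1 : t ≠ 1 := by
    rintro rfl
    rw [orderOf_one] at ht
    norm_num at ht
  have ht2 : t * t = 1 := by rw [← pow_two, ← ht, pow_orderOf_eq_one]
  rcases SporRec.SuzCl.two t ht2 ht1 with ⟨g, hg⟩ | ⟨g, hg⟩
  · exfalso
    have h3 : SporRec.SuzCl.ia = z0 := KFacts.SuzY.z0_eq.symm
    rw [h3] at hg
    rw [← hg, SigZeroSuz.Row.card_conj, KFacts.SuzCent.card_C1] at h7
    norm_num at h7
  · refine ⟨g, ?_⟩
    have h3 : SporRec.SuzCl.ie = e0 := by
      show (PresentedGroup.of Suz.Gen.e : Cfsg.Spor.Suz) = el [Suz.Gen.e]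
      unfold el
      rw [List.map_cons, List.map_nil, List.prod_cons, List.prod_nil, mul_one]
    rw [h3] at hg
    exact hg

/-- a 2-element commuting with `e0` and with an element of order 5 commuting with `e0` -/
theorem mem_V {x c : Suz} (hxe : x * e0 = e0 * x) (hx : orderOf x = 5) (hce : c * e0 = e0 * c) (hcx : c * x = x * c)
    {k : ℕ} (hk : c ^ 2 ^ k = 1) : c ∈ V := by
  have hx5 : x ^ 5 = 1 := by rw [← hx, pow_orderOf_eq_one]
  have hxL : x ∈ L := mem_L_of_odd (mem_CE.2 hxe) (n := 5) (by decide) hx5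
  obtain ⟨v, hv, i, rfl⟩ := cent_CE hxL (Or.inr hx) hce hcx
  rcases Nat.eq_zero_or_pos k with rfl | hk0
  · rw [pow_zero, pow_one] at hk
    rw [hk]
    exact one_mem _
  have hvx : Commute v (x ^ i) := (show Commute v x from V_comm v hv x hxL).zpow_right i
  have hv2 : v ^ 2 ^ k = 1 := by
    obtain ⟨m, rfl⟩ : ∃ m, k = m + 1 := ⟨k - 1, by omega⟩
    rw [pow_succ', pow_mul, pow_two, sq_V hv, one_pow]
  rw [hvx.mul_pow, hv2, one_mul] at hk
  have h1 : x ^ i = 1 := by
    rw [← orderOf_dvd_iff_pow_eq_one] at hk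
    have h2 : orderOf (x ^ i) ∣ 5 := orderOf_dvd_of_pow_eq_one (by
      rw [← zpow_natCast, ← zpow_mul, mul_comm, zpow_mul, zpow_natCast, hx5, one_zpow])
    have h3 : orderOf (x ^ i) ∣ 1 := by
      have h4 : Nat.Coprime (2 ^ k) 5 := Nat.Coprime.pow_left _ (by norm_num)
      rw [← h4.gcd_eq_one]
      exact Nat.dvd_gcd hk h2
    exact orderOf_eq_one_iff.1 (Nat.dvd_one.1 h3)
  rw [h1, mul_one]
  exact hv

theorem card_le_four {T : Type*} [Group T] (h : IsoSuz T) {t x : T} (ht : orderOf t = 2)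
    (h7 : 7 ∣ Nat.card (centralizer ({t} : Set T))) (hx : orderOf x = 5) (hxt : x * t = t * x) {S : Subgroup T}
    (hS : IsPGroup 2 S) (hSt : ∀ s ∈ S, s * t = t * s) (hSx : ∀ s ∈ S, s * x = x * s) : Nat.card S ≤ 4 := by
  obtain ⟨e⟩ := h
  rw [card_cent_map e t] at h7
  obtain ⟨g, hg⟩ := exists_conj_e0 (t := e t) (by rw [MulEquiv.orderOf_eq, ht]) h7
  let f : T →* Suz := (MulAut.conj g⁻¹).toMonoidHom.comp e.toMonoidHom
  have hf : ∀ s : T, f s = g⁻¹ * e s * g := fun s => by
    show g⁻¹ * e s * g⁻¹⁻¹ = _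
    rw [inv_inv]
  have hft : f t = e0 := by
    rw [hf, ← hg]
    group
  have hinj : Function.Injective f := (MulAut.conj g⁻¹).injective.comp e.injective
  have hcomm : ∀ {a b : T}, a * b = b * a → f a * f b = f b * f a := fun {a b} hab => by
    rw [← map_mul, ← map_mul, hab]
  have h1 : ∀ s ∈ S, f s ∈ V := by
    intro s hs
    obtain ⟨k, hk⟩ := hS ⟨s, hs⟩
    have hk' : s ^ 2 ^ k = 1 := congrArg Subtype.val hk
    refine mem_V (x := f x) (k := k) ?_ (by rw [orderOf_injective f hinj, hx]) ?_ (hcomm (hSx s hs))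
      (by rw [← map_pow, hk', map_one])
    · rw [← hft]; exact hcomm hxt
    · rw [← hft]; exact hcomm (hSt s hs)
  have h2 : Nat.card S ≤ Nat.card V := by
    have := CTwoTab.Suz.finSuz
    refine Nat.card_le_card_of_injective (fun s : S => (⟨f s, h1 s s.2⟩ : V)) fun a b hab => ?_
    exact Subtype.ext (hinj (congrArg Subtype.val hab))
  rwa [card_V] at h2

/-! ### two classes of elements of order 5 -/

theorem cent_x5 : Nat.card (centralizer ({x5} : Set Suz)) = 300 := by
  have := CTwoTab.Suz.finSuz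
  have h1 := sq_dvd_cent (p := 5) (by norm_num) (by rw [card_suz]; norm_num) order_x5
  rcases H812.SuzLoc.card_cases x5_mem (Or.inr rfl) order_x5 with h | h | h
  · rw [h] at h1; norm_num at h1
  · rw [h] at h1; norm_num at h1
  · exact h

theorem nine_dvd_of_comm {G : Type*} [Group G] [Finite G] {s t y : G} (hs : s * y = y * s) (ht : t * y = y * t)
    (hst : s * t = t * s) (hs3 : orderOf s = 3) (ht3 : orderOf t = 3) (hn : t ∉ zpowers s) :
    9 ∣ Nat.card (centralizer ({y} : Set G)) := by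
  have hp : Nat.Prime 3 := Nat.prime_three
  have hc : ∀ (a : zpowers s) (b : zpowers t), Commute ((zpowers s).subtype a) ((zpowers t).subtype b) := by
    rintro ⟨_, i, rfl⟩ ⟨_, j, rfl⟩
    exact ((show Commute s t from hst).zpow_left i).zpow_right j
  have hdis : zpowers s ⊓ zpowers t = ⊥ := by
    by_contra hne
    have h1 : Nat.card ↥(zpowers s ⊓ zpowers t) ∣ 3 := by
      have h2 : Nat.card ↥(zpowers s ⊓ zpowers t) ∣ Nat.card (zpowers s) := card_dvd_of_le inf_le_left
      rwa [Nat.card_zpowers, hs3] at h2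
    rcases (Nat.dvd_prime hp).1 h1 with h2 | h2
    · exact hne (Subgroup.eq_bot_of_card_eq _ h2)
    · have h3 : zpowers s ⊓ zpowers t = zpowers t :=
        eq_of_le_of_card_ge inf_le_right (by rw [h2, Nat.card_zpowers, ht3])
      apply hn
      have h4 : t ∈ zpowers s ⊓ zpowers t := by rw [h3]; exact mem_zpowers t
      exact h4.1
  have hinj : Function.Injective (MonoidHom.noncommCoprod (zpowers s).subtype (zpowers t).subtype hc) := by
    rw [MonoidHom.noncommCoprod_injective]
    refine ⟨subtype_injective _, subtype_injective _, ?_⟩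
    rw [Subgroup.range_subtype, Subgroup.range_subtype, disjoint_iff]
    exact hdis
  have h1 : Nat.card (MonoidHom.noncommCoprod (zpowers s).subtype (zpowers t).subtype hc).range = 9 := by
    rw [← Nat.card_congr (MonoidHom.ofInjective hinj).toEquiv, Nat.card_prod, Nat.card_zpowers, Nat.card_zpowers, hs3, ht3]
  have h2 : (MonoidHom.noncommCoprod (zpowers s).subtype (zpowers t).subtype hc).range ≤ centralizer ({y} : Set G) := by
    rintro _ ⟨⟨⟨_, i, rfl⟩, ⟨_, j, rfl⟩⟩, rfl⟩
    rw [mem_centralizer_singleton_iff]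
    exact (((show Commute s y from hs).zpow_left i).mul_left ((show Commute t y from ht).zpow_left j)).eq
  have h3 := card_dvd_of_le h2
  rwa [h1] at h3

open Cfsg.Agent.H99.SuzFive in
theorem nine_dvd : ∃ y : Suz, orderOf y = 5 ∧ 9 ∣ Nat.card (centralizer ({y} : Set Suz)) := by
  classical
  have hfin := CTwoTab.Suz.finSuz
  have h5 : Fact (Nat.Prime 5) := ⟨by norm_num⟩
  have h3 : Fact (Nat.Prime 3) := ⟨by norm_num⟩
  have hy5 : el wy ^ 5 = 1 := pow_five (by decide +kernel)
  have hyo : orderOf (el wy) = 5 := orderOf_eq_prime hy5 (ne_one 4 (by decide +kernel))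
  have ms : Commute (el [.b, .f]) (el wy) := comm (by decide +kernel)
  have mt : Commute (el [.b, .g, .b, .f, .b, .g, .f, .g, .b, .f, .g]) (el wy) := comm (by decide +kernel)
  have mst : Commute (el [.b, .f]) (el [.b, .g, .b, .f, .b, .g, .f, .g, .b, .f, .g]) := comm (by decide +kernel)
  have s3 : (el [.b, .f]) ^ 3 = 1 := by
    have h : el ([.b, .f] ++ [.b, .f] ++ [.b, .f]) = el [] := el_eq (by decide +kernel)
    rw [el_append, el_append] at h
    rw [pow_succ, pow_two, h]
    rfl
  have t3 : (el [.b, .g, .b, .f, .b, .g, .f, .g, .b, .f, .g]) ^ 3 = 1 := by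
    have h : el ([.b, .g, .b, .f, .b, .g, .f, .g, .b, .f, .g] ++ [.b, .g, .b, .f, .b, .g, .f, .g, .b, .f, .g] ++
      [.b, .g, .b, .f, .b, .g, .f, .g, .b, .f, .g]) = el [] := el_eq (by decide +kernel)
    rw [el_append, el_append] at h
    rw [pow_succ, pow_two, h]
    rfl
  have s1 : el [.b, .f] ≠ 1 := ne_one 1 (by decide +kernel)
  have t1 : el [.b, .g, .b, .f, .b, .g, .f, .g, .b, .f, .g] ≠ 1 := ne_one 0 (by decide +kernel)
  have u1 : el ([.b, .g, .b, .f, .b, .g, .f, .g, .b, .f, .g] ++ [.f, .b]) ≠ 1 := ne_one 0 (by decide +kernel)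
  have u2 : el ([.b, .g, .b, .f, .b, .g, .f, .g, .b, .f, .g] ++ ([.f, .b] ++ [.f, .b])) ≠ 1 :=
    ne_one 0 (by decide +kernel)
  have r1 : el [.f, .b] * el [.b, .f] = 1 := by
    have h : el ([.f, .b] ++ [.b, .f]) = el [] := el_eq (by decide +kernel)
    rw [el_append] at h
    exact h
  rw [el_append] at u1
  rw [el_append, el_append] at u2
  refine ⟨el wy, hyo, nine_dvd_of_comm ms.eq mt.eq mst.eq (orderOf_eq_prime s3 s1) (orderOf_eq_prime t3 t1) ?_⟩
  generalize el [.b, .f] = s at *
  generalize el [.b, .g, .b, .f, .b, .g, .f, .g, .b, .f, .g] = t at *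
  generalize el [.f, .b] = r at *
  have hr : r = s⁻¹ := eq_inv_of_mul_eq_one_left r1
  subst hr
  intro ht
  have h3 : ∃ k < orderOf s, s ^ k = t := by
    obtain ⟨k, hk⟩ := (mem_zpowers_iff_mem_range_orderOf.1 ht |> Finset.mem_image.1)
    exact ⟨k, Finset.mem_range.1 hk.1, hk.2⟩
  obtain ⟨k, hk, rfl⟩ := h3
  rw [orderOf_eq_prime s3 s1] at hk
  interval_cases k
  · exact t1 (pow_zero s)
  · exact u1 (by rw [pow_one, mul_inv_cancel])
  · exact u2 (by rw [pow_two]; group)

theorem exists_five {T : Type*} [Group T] (h : IsoSuz T) : ∃ x y : T, orderOf x = 5 ∧ orderOf y = 5 ∧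
    Nat.card (centralizer ({x} : Set T)) ≠ Nat.card (centralizer ({y} : Set T)) := by
  obtain ⟨e⟩ := h
  obtain ⟨y, hy, h9⟩ := nine_dvd
  refine ⟨e.symm x5, e.symm y, by rw [MulEquiv.orderOf_eq, order_x5], by rw [MulEquiv.orderOf_eq, hy], fun hne => ?_⟩
  rw [card_cent_map e (e.symm x5), card_cent_map e (e.symm y), e.apply_symm_apply,
    e.apply_symm_apply, cent_x5] at hne
  rw [← hne] at h9
  norm_num at h9

/-! ### elements commuting with an element of order 7 -/

theorem alt_four : ∀ a b : alternatingGroup (Fin 4), a * a = 1 → a ≠ 1 → b * b * b = 1 → b ≠ 1 →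
    b * a * b⁻¹ ≠ a ∧ b * a * b⁻¹ * a = a * (b * a * b⁻¹) := by
  decide +kernel

theorem four_group {T : Type*} [Group T] (h : IsoSuz T) {y t u : T} (hy : orderOf y = 7) (ht : orderOf t = 2)
    (hu : orderOf u = 3) (hty : t * y = y * t) (huy : u * y = y * u) :
    u * t * u⁻¹ ≠ t ∧ u * t * u⁻¹ * t = t * (u * t * u⁻¹) := by
  have hfin : Finite T := Nat.finite_of_card_ne_zero (by
    obtain ⟨e⟩ := h
    rw [Nat.card_congr e.toEquiv, card_suz]
    norm_num)
  have hc : Nat.card T = 448345497600 := by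
    obtain ⟨e⟩ := h
    rw [Nat.card_congr e.toEquiv, card_suz]
  have h7 : Fact (Nat.Prime 7) := ⟨by norm_num⟩
  have hp : IsPGroup 7 (zpowers y) := IsPGroup.of_card (n := 1) (by rw [Nat.card_zpowers, hy, pow_one])
  obtain ⟨B, hB⟩ := hp.exists_le_sylow
  have hBc : Nat.card B = 7 := by
    have h5 := Cfsg.Agent.H257.El.Top.card_sylow_of B (a := 1) (by rw [hc]; norm_num) (by rw [hc]; norm_num)
    rwa [pow_one] at h5
  have hBe : zpowers y = B := by
    apply Subgroup.eq_of_le_of_card_ge hB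
    rw [hBc, Nat.card_zpowers, hy]
  obtain ⟨⟨f⟩, -⟩ := Cfsg.Agent.H812.SuzSeven.main h B
  have hmem : ∀ z : T, z * y = y * z → z ∈ centralizer ((B : Subgroup T) : Set T) := fun z hz => by
    rw [← hBe, zpowers_eq_closure, centralizer_closure, mem_centralizer_singleton_iff]
    exact hz
  have hfst : ∀ (z : centralizer ((B : Subgroup T) : Set T)) (n : ℕ), Nat.Coprime 7 n → z ^ n = 1 → (f z).1 = 1 := by
    intro z n hn hz
    have h1 : (f z).1 ^ n = 1 := by
      rw [← Prod.pow_fst, ← map_pow, hz, map_one]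
      rfl
    have h2 : (f z).1 ^ 7 = 1 := by
      have h4 := pow_card_eq_one' (x := (f z).1)
      rwa [show Nat.card (Multiplicative (ZMod 7)) = 7 by simp] at h4
    rw [← orderOf_eq_one_iff, ← Nat.dvd_one, ← hn.gcd_eq_one]
    exact Nat.dvd_gcd (orderOf_dvd_of_pow_eq_one h2) (orderOf_dvd_of_pow_eq_one h1)
  set t' : centralizer ((B : Subgroup T) : Set T) := ⟨t, hmem t hty⟩ with ht'
  set u' : centralizer ((B : Subgroup T) : Set T) := ⟨u, hmem u huy⟩ with hu'
  have ht2 : t' ^ 2 = 1 := Subtype.ext (by show t ^ 2 = 1; rw [← ht, pow_orderOf_eq_one])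
  have hu3 : u' ^ 3 = 1 := Subtype.ext (by show u ^ 3 = 1; rw [← hu, pow_orderOf_eq_one])
  have ht1 : t' ≠ 1 := fun h1 => by
    have h2 : t = 1 := congrArg Subtype.val h1
    rw [h2, orderOf_one] at ht
    norm_num at ht
  have hu1 : u' ≠ 1 := fun h1 => by
    have h2 : u = 1 := congrArg Subtype.val h1
    rw [h2, orderOf_one] at hu
    norm_num at hu
  have ft := hfst t' 2 (by norm_num) ht2
  have fu := hfst u' 3 (by norm_num) hu3
  have h1 := alt_four (f t').2 (f u').2 (by
      rw [← pow_two, ← Prod.pow_snd, ← map_pow, ht2, map_one]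
      rfl) (fun h2 => ht1 (f.injective (by rw [map_one]; exact Prod.ext ft h2))) (by
      rw [← pow_two, ← pow_succ, ← Prod.pow_snd, ← map_pow, hu3, map_one]
      rfl) (fun h2 => hu1 (f.injective (by rw [map_one]; exact Prod.ext fu h2)))
  constructor
  · intro h2
    apply h1.1
    have h3 : u' * t' * u'⁻¹ = t' := Subtype.ext h2
    rw [← Prod.snd_mul, ← Prod.snd_inv, ← Prod.snd_mul, ← map_mul, ← map_inv, ← map_mul, h3]
  · have h3 : f (u' * t' * u'⁻¹ * t') = f (t' * (u' * t' * u'⁻¹)) := by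
      apply Prod.ext
      · simp only [map_mul, map_inv, Prod.fst_mul, Prod.fst_inv, ft, fu, inv_one, mul_one]
      · simp only [map_mul, map_inv, Prod.snd_mul, Prod.snd_inv]
        exact h1.2
    exact congrArg Subtype.val (f.injective h3)

end Cfsg.Agent.H348.Der.SuzFacts
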