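import Cfsg.Agent.H348.Der.SuzTools
import Cfsg.Agent.H348.Der.Base

/-!
# Three classes of derangements (S3502): `Suz` (helper348)
-/

set_option autoImplicit false

namespace Cfsg.Agent.H348.Der.SuzRow

open Subgroup Cfsg
open Cfsg.Agent.OrdDiv Cfsg.Agent.H257.El Cfsg.Agent.H439.Der Cfsg.Agent.H938.Sax Cfsg.Agent.H966.Der

universe u

variable {T : Type u} [Group T]

/-- three commuting involutions in a subgroup, outside the core: one is in the core -/
theorem exists_core {M : Type*} [Group M] [Finite M] {O : Subgroup M} [O.Normal] {N : Subgroup (M ⧸ O)} [N.Normal]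
    (hO7 : ¬ 7 ∣ Nat.card O) (hN4 : ¬ 4 ∣ N.index) (hN7 : ¬ 7 ∣ N.index) (hN14 : ∀ w : N, orderOf w ≠ 14)
    {y t s : M} (hy : orderOf y = 7) (ht : orderOf t = 2) (hs : orderOf s = 2) (hty : t * y = y * t)
    (hsy : s * y = y * s) (hne : s ≠ t) (hst : s * t = t * s) :
    ∃ e ∈ O, orderOf e = 2 ∧ e * y = y * e := by
  have h2 : Fact (Nat.Prime 2) := ⟨Nat.prime_two⟩
  by_contra hcon
  push Not at hcon
  have h7 : orderOf (QuotientGroup.mk' O y) = 7 := by
    rw [orderOf_mk_of_coprime O, hy]
    rw [hy]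
    exact (Nat.Prime.coprime_iff_not_dvd (by norm_num)).2 hO7
  have hyN : QuotientGroup.mk' O y ∈ N := mem_of_coprime_index N (by
    rw [h7]
    exact (Nat.Prime.coprime_iff_not_dvd (by norm_num)).2 hN7)
  -- an involution commuting with `y` is not in `N`
  have key : ∀ e : M, orderOf e = 2 → e * y = y * e → QuotientGroup.mk' O e ∉ N := by
    intro e he hey hN
    have h1 : orderOf (QuotientGroup.mk' O e) = 2 := by
      apply orderOf_eq_prime
      · rw [← map_pow, ← he, pow_orderOf_eq_one, map_one]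
      · intro h3
        exact hcon e ((QuotientGroup.eq_one_iff e).1 h3) he hey
    have h3 := orderOf_mul_of_comm (r := 2) (s := 7) (by norm_num) (by norm_num) (by norm_num) h1 h7
      (by rw [← map_mul, ← map_mul, hey])
    apply hN14 ⟨_, N.mul_mem hN hyN⟩
    rw [Subgroup.orderOf_mk, h3]
  have h4 : ∀ e : M, orderOf e = 2 → e * y = y * e →
      orderOf (QuotientGroup.mk' N (QuotientGroup.mk' O e)) = 2 := by
    intro e he hey
    apply orderOf_eq_prime
    · rw [← map_pow, ← map_pow, ← he, pow_orderOf_eq_one, map_one, map_one]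
    · intro h3
      exact key e he hey ((QuotientGroup.eq_one_iff _).1 h3)
  have hts : orderOf (t * s) = 2 := by
    have t2 : t * t = 1 := by rw [← pow_two, ← ht, pow_orderOf_eq_one]
    have s2 : s * s = 1 := by rw [← pow_two, ← hs, pow_orderOf_eq_one]
    apply orderOf_eq_prime
    · rw [pow_two]
      calc t * s * (t * s) = t * (s * t) * s := by group
        _ = t * (t * s) * s := by rw [hst]
        _ = (t * t) * (s * s) := by group
        _ = 1 := by rw [t2, s2, one_mul]
    · intro h5
      apply hne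
      calc s = (t * t) * s := by rw [t2, one_mul]
        _ = t * (t * s) := by group
        _ = t := by rw [h5, mul_one]
  have htsy : t * s * y = y * (t * s) := by
    calc t * s * y = t * (s * y) := by group
      _ = (t * y) * s := by rw [hsy]; group
      _ = y * (t * s) := by rw [hty]; group
  have h5 := sq_dvd_of_comm Nat.prime_two (⊤ : Subgroup ((M ⧸ O) ⧸ N)) (s := QuotientGroup.mk' N (QuotientGroup.mk' O s))
    (t := QuotientGroup.mk' N (QuotientGroup.mk' O t)) (mem_top _) (mem_top _)
    (by rw [← map_mul, ← map_mul, ← map_mul, ← map_mul, hst]) (h4 s hs hsy) (h4 t ht hty) (by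
      intro h6
      have h7 := h4 (t * s) hts htsy
      obtain ⟨k, hk⟩ := mem_zpowers_iff.1 h6
      have hs2 : (QuotientGroup.mk' N (QuotientGroup.mk' O s)) ^ 2 = 1 := by rw [← h4 s hs hsy, pow_orderOf_eq_one]
      rcases Int.even_or_odd' k with ⟨m, rfl | rfl⟩
      · rw [zpow_mul, show ((2 : ℤ)) = ((2 : ℕ) : ℤ) by rfl, zpow_natCast, hs2, one_zpow] at hk
        have h8 := h4 t ht hty
        rw [← hk, orderOf_one] at h8
        norm_num at h8
      · rw [zpow_add, zpow_mul, show ((2 : ℤ)) = ((2 : ℕ) : ℤ) by rfl, zpow_natCast, hs2, one_zpow, one_mul,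
          zpow_one] at hk
        rw [map_mul, map_mul, ← hk, ← pow_two, hs2, orderOf_one] at h7
        norm_num at h7)
  apply hN4
  rw [show (4 : ℕ) = 2 ^ 2 by norm_num]
  rwa [Nat.card_congr (Subgroup.topEquiv).toEquiv] at h5

/-- **the crux** : no subgroup with the given top contains elements of orders 14 and 21 -/
theorem no_both [Finite T] (h : Spor.IsoSuz T) {M : Subgroup T} {O : Subgroup M} [O.Normal] {N : Subgroup (M ⧸ O)}
    [N.Normal] (h25 : 25 ∣ Nat.card M) (hO5 : ¬ 5 ∣ Nat.card O) (hO7 : ¬ 7 ∣ Nat.card O)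
    (hO2 : ∀ b, 2 ^ b ∣ Nat.card O → b ≤ 6) (hN4 : ¬ 4 ∣ N.index) (hN7 : ¬ 7 ∣ N.index)
    (hN14 : ∀ w : N, orderOf w ≠ 14) {a b : T} (ha : a ∈ M) (hb : b ∈ M) (hao : orderOf a = 14)
    (hbo : orderOf b = 21) : False := by
  have hc : Nat.card T = 448345497600 := Cfsg.Agent.NotCT.Orders.suz h
  have h7 : Fact (Nat.Prime 7) := ⟨by norm_num⟩
  have h2 : Fact (Nat.Prime 2) := ⟨Nat.prime_two⟩
  have h5 : Fact (Nat.Prime 5) := ⟨by norm_num⟩
  have h49 : ¬ 7 ^ 2 ∣ Nat.card M := fun h1 => by
    have h3 := h1.trans (Subgroup.card_subgroup_dvd_card M)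
    rw [hc] at h3
    norm_num at h3
  have hcyc : ∀ S : Sylow 7 M, IsCyclic S := fun S => cyclic_of_sq h49 S
  set a' : M := ⟨a, ha⟩ with ha'
  set b' : M := ⟨b, hb⟩ with hb'
  have hao' : orderOf a' = 14 := by rw [ha', Subgroup.orderOf_mk, hao]
  have hbo' : orderOf b' = 21 := by rw [hb', Subgroup.orderOf_mk, hbo]
  have e1 : orderOf (a' ^ 2) = 7 := by rw [orderOf_pow_of_dvd (by norm_num) (by rw [hao']; norm_num), hao']
  have e2 : orderOf (a' ^ 7) = 2 := by rw [orderOf_pow_of_dvd (by norm_num) (by rw [hao']; norm_num), hao']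
  have e3 : orderOf (b' ^ 3) = 7 := by rw [orderOf_pow_of_dvd (by norm_num) (by rw [hbo']; norm_num), hbo']
  have e4 : orderOf (b' ^ 7) = 3 := by rw [orderOf_pow_of_dvd (by norm_num) (by rw [hbo']; norm_num), hbo']
  obtain ⟨g, hg⟩ := conj_of_cyclic hcyc e3 e1
  set y : M := g * a' ^ 2 * g⁻¹ with hy
  set t : M := g * a' ^ 7 * g⁻¹ with ht
  set u : M := b' ^ 7 with hu
  have hyo : orderOf y = 7 := by rw [hy, orderOf_conj, e1]
  have hto : orderOf t = 2 := by rw [ht, orderOf_conj, e2]
  have hty : t * y = y * t := by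
    rw [ht, hy]
    calc g * a' ^ 7 * g⁻¹ * (g * a' ^ 2 * g⁻¹) = g * (a' ^ 7 * a' ^ 2) * g⁻¹ := by group
      _ = g * (a' ^ 2 * a' ^ 7) * g⁻¹ := by rw [← pow_add, ← pow_add]
      _ = _ := by group
  have huy : u * y = y * u := by
    obtain ⟨k, hk⟩ := mem_zpowers_iff.1 hg
    rw [← hk]
    exact (((Commute.refl b').pow_pow 7 3).zpow_right k).eq
  obtain ⟨f1, f2⟩ := SuzFacts.four_group h (y := (y : T)) (t := (t : T)) (u := (u : T))
    (by rw [Subgroup.orderOf_coe, hyo]) (by rw [Subgroup.orderOf_coe, hto]) (by rw [Subgroup.orderOf_coe, e4])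
    (congrArg Subtype.val hty) (congrArg Subtype.val huy)
  have hso : orderOf (u * t * u⁻¹) = 2 := by rw [orderOf_conj, hto]
  have hsy : u * t * u⁻¹ * y = y * (u * t * u⁻¹) := by
    have c1 : Commute u y := huy
    have c2 : Commute t y := hty
    exact ((c1.mul_left c2).mul_left c1.inv_left).eq
  obtain ⟨e, heO, heo, hey⟩ := exists_core hO7 hN4 hN7 hN14 hyo hto hso hty hsy
    (fun h1 => f1 (congrArg Subtype.val h1)) (Subtype.ext f2)
  -- the Sylow 2-subgroup of the core
  have hpe : IsPGroup 2 (zpowers (⟨e, heO⟩ : O)) := IsPGroup.of_card (n := 1) (by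
    rw [Nat.card_zpowers, Subgroup.orderOf_mk, heo, pow_one])
  obtain ⟨S, hS⟩ := hpe.exists_le_sylow
  set P : Subgroup M := (S : Subgroup O).map O.subtype with hP
  have h1 : 25 ∣ O.index := by
    have h3 := Subgroup.card_mul_index O
    rw [← h3] at h25
    refine Nat.Coprime.dvd_of_dvd_mul_left ?_ h25
    rw [show 25 = 5 ^ 2 by norm_num]
    exact Nat.Coprime.pow_left 2 ((Nat.Prime.coprime_iff_not_dvd (by norm_num)).2 hO5)
  have h3 : 5 ^ 2 ∣ Nat.card (normalizer (P : Set M)) := by
    have := h1.trans (index_dvd_normalizer O S)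
    rwa [show 25 = 5 ^ 2 by norm_num] at this
  obtain ⟨W, hW⟩ := Sylow.exists_subgroup_card_pow_prime 5 h3
  have hWM : ∀ w ∈ W.map (normalizer (P : Set M)).subtype, w ∈ normalizer (P : Set M) := by
    rintro _ ⟨w, -, rfl⟩
    exact w.2
  have hPp : IsPGroup 2 P := S.isPGroup'.map _
  have hPc : Nat.card P = Nat.card S := by rw [hP, Subgroup.card_map_of_injective O.subtype_injective]
  have hP64 : Nat.card P ≤ 64 := by
    obtain ⟨k, hk⟩ := IsPGroup.iff_card.1 S.isPGroup'
    have hk6 := hO2 k (by rw [← hk]; exact Subgroup.card_subgroup_dvd_card _)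
    rw [hPc, hk]
    exact (Nat.pow_le_pow_right (by norm_num) hk6).trans (by norm_num)
  have heP : e ∈ P := ⟨⟨e, heO⟩, hS (mem_zpowers _), rfl⟩
  have he1 : (e : T) ≠ 1 := fun h4 => by
    rw [← Subgroup.orderOf_coe, h4, orderOf_one] at heo
    norm_num at heo
  obtain ⟨r1, ⟨x, hx, hxo, hxc⟩, r3⟩ := FiveAct.main (W := (W.map (normalizer (P : Set M)).subtype).map M.subtype)
    (S := P.map M.subtype) (by
      rw [Subgroup.card_map_of_injective M.subtype_injective, Subgroup.card_map_of_injective (subtype_injective _), hW]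
      norm_num) (hPp.map _) (by
      rintro _ ⟨w, hw, rfl⟩ _ ⟨s, hs, rfl⟩
      exact ⟨w * s * w⁻¹, ((mem_normalizer_iff.1 (hWM w hw)) s).1 hs, rfl⟩)
    (by rw [Subgroup.card_map_of_injective M.subtype_injective]; exact hP64) (fun t ht => SuzFacts.not_25 h ht)
    (e := (e : T)) ⟨e, heP, rfl⟩ he1
  have h4 := SuzFacts.card_le_four h (t := (e : T)) (x := x) (by rw [Subgroup.orderOf_coe, heo]) (by
      have h6 := Subgroup.orderOf_dvd_natCard (centralizer ({(e : T)} : Set T)) (x := (y : T))
        (mem_centralizer_singleton_iff.2 (congrArg Subtype.val hey.symm))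
      rwa [Subgroup.orderOf_coe, hyo] at h6) hxo
    (hxc e ⟨e, heP, rfl⟩).symm (hPp.map M.subtype) r3 hxc
  omega

/-- a missing class of elements of order 5 -/
theorem exists_miss [Finite T] (h : Spor.IsoSuz T) {M : Subgroup T} (h25 : ¬ 25 ∣ Nat.card M) :
    ∃ x : T, orderOf x = 5 ∧ ∀ φ : T ≃* T, φ x ∉ M := by
  have h5 : Fact (Nat.Prime 5) := ⟨by norm_num⟩
  obtain ⟨x, y, hx, hy, hne⟩ := SuzFacts.exists_five h
  rcases Cfsg.Agent.H602.Der.miss_of_cyclic (R := M) (s := 5)
    (fun P => cyclic_of_sq (by rwa [show 5 ^ 2 = 25 by norm_num]) P) hx hy hne with h1 | h1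
  · exact ⟨x, hx, h1⟩
  · exact ⟨y, hy, h1⟩

theorem three_of_miss {M : Subgroup T} {x y z : T} (hx : ∀ φ : T ≃* T, φ x ∉ M) (hy : ∀ φ : T ≃* T, φ y ∉ M)
    (hz : ∀ φ : T ≃* T, φ z ∉ M) (hxy : orderOf x ≠ orderOf y) (hxz : orderOf x ≠ orderOf z)
    (hyz : orderOf y ≠ orderOf z) : Three T M :=
  ⟨x, y, z, hx, hy, hz, fun φ hφ => hxy (by rw [← hφ, orderOf_mulEquiv]), fun φ hφ => hxz (by rw [← hφ, orderOf_mulEquiv]),
    fun φ hφ => hyz (by rw [← hφ, orderOf_mulEquiv])⟩

/-- the survivors for `r = 7`, `25 ∣ |N|`, `11, 13 ∤ |N|` -/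
theorem surv_chk : ((surv 448345497600 Suz.l 7 [5]).all fun g => decide (g = .j2 ∨ g = .alt 10 ∨ g = .oplus 4 2) ||
    (ordN g % 25 != 0 || (ordN g % 11 == 0 || ordN g % 13 == 0))) = true := by
  decide +kernel

variable (tab : OrderTable.{u}) (known : Known.{u})

include tab known in
theorem three_of (h : Spor.IsoSuz T) {M : Subgroup T} (hM : M ≠ ⊤) : Three T M := by
  have hfin := Suz.finite h
  have hc := Cfsg.Agent.NotCT.Orders.suz h
  have h5' : Fact (Nat.Prime 5) := ⟨by norm_num⟩
  have h11' : Fact (Nat.Prime 11) := ⟨by norm_num⟩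
  have h13' : Fact (Nat.Prime 13) := ⟨by norm_num⟩
  have no35 : ∀ z : T, orderOf z ≠ 7 * 5 := Suz.no_7 h (k := 5) (by norm_num) (by norm_num)
  obtain ⟨x10, e10⟩ := Suz.exists_ord h Cfsg.Agent.H153.Zeros.ord_suz_10
  obtain ⟨x14, e14⟩ := Suz.exists_ord h Cfsg.Agent.H153.Zeros.ord_suz_14
  obtain ⟨x15, e15⟩ := Suz.exists_ord h Cfsg.Agent.H153.Zeros.ord_suz_15
  obtain ⟨x18, e18⟩ := Suz.exists_ord h ord_suz_18
  obtain ⟨x20, e20⟩ := Suz.exists_ord h Cfsg.Agent.H153.Zeros.ord_suz_20
  obtain ⟨x21, e21⟩ := Suz.exists_ord h Cfsg.Agent.H153.Zeros.ord_suz_21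
  obtain ⟨x24, e24⟩ := Suz.exists_ord h Cfsg.Agent.H153.Zeros.ord_suz_24
  obtain ⟨x11, e11⟩ := exists_prime_orderOf_dvd_card' (G := T) 11 (by rw [hc]; norm_num)
  obtain ⟨x13, e13⟩ := exists_prime_orderOf_dvd_card' (G := T) 13 (by rw [hc]; norm_num)
  have e5 : orderOf (x10 ^ 2) = 5 := by rw [orderOf_pow_of_dvd (by norm_num) (by rw [e10]; norm_num), e10]
  have e7 : orderOf (x14 ^ 2) = 7 := by rw [orderOf_pow_of_dvd (by norm_num) (by rw [e14]; norm_num), e14]
  have e9 : orderOf (x18 ^ 2) = 9 := by rw [orderOf_pow_of_dvd (by norm_num) (by rw [e18]; norm_num), e18]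
  by_cases h7 : 7 ∣ Nat.card M
  swap
  · exact Three.of_not_dvd h7 (not_SCC_of_orders (x := x14 ^ 2) (y := x14) (z := x21) (by rw [e7])
      (by rw [e14]; norm_num) (by rw [e21]; norm_num) (by rw [e7, e14]; norm_num) (by rw [e7, e21]; norm_num)
      (by rw [e14, e21]; norm_num)) ⟨x14, by rw [e14]; norm_num⟩
  by_cases h5 : 5 ∣ Nat.card M
  swap
  · exact Three.of_not_dvd h5 (not_SCC_of_orders (x := x10 ^ 2) (y := x10) (z := x15) (by rw [e5])
      (by rw [e10]; norm_num) (by rw [e15]; norm_num) (by rw [e5, e10]; norm_num) (by rw [e5, e15]; norm_num)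
      (by rw [e10, e15]; norm_num)) ⟨x10, by rw [e10]; norm_num⟩
  have hnot : ∀ k : ℕ, ¬ k ∣ Nat.card M → ∀ m ∈ M, orderOf m ≠ k := fun k hk m hm hmo => hk (by
    rw [← hmo]
    exact Subgroup.orderOf_dvd_natCard _ hm)
  by_cases h13 : 13 ∣ Nat.card M
  · have S : Cfsg.Agent.H966.Der.Sit T 448345497600 Suz.l 13 M := ⟨tab, known, hc, Suz.valid_l, by norm_num, by norm_num, h13, hM⟩
    obtain ⟨O, hO, N, hT⟩ := S.exists_top
    have hNn := hT.normal
    have i13 := Suz.iso_13 h
    have hd7 := S.dvd_simple hT (s := 7) (by norm_num) (i13 7 (by norm_num) (by norm_num)) (by decide +kernel) h7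
    have hd5 := S.dvd_simple hT (s := 5) (by norm_num) (i13 5 (by norm_num) (by norm_num)) (by decide +kernel) h5
    have hna := Cfsg.Agent.H257.El.Sit.not_comm_of_dvd hT (by norm_num) (by norm_num) hd7
    obtain ⟨g, hg, hr, hgc⟩ := S.exists_surv hT hna [7, 5] (by simp [hd7, hd5])
    have hg' := mem_of_chkSurv (L := [.alt 13, .psl 2 64, .psl 3 9, .g2 4, .sz 8]) (by decide +kernel) hg
    have hne : Nat.card N ≠ 13 := by
      intro h1
      rw [h1] at hd7
      norm_num at hd7
    have hi := S.index_dvd hT i13 hne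
    simp only [List.mem_cons, List.not_mem_nil, or_false] at hg'
    rcases hg' with rfl | rfl | rfl | rfl | rfl
    · -- `A13`
      exfalso
      obtain ⟨e⟩ := hr
      obtain ⟨σ, hσ⟩ := exists_35_13
      obtain ⟨z, hz⟩ := Cfsg.Agent.H257.El.Sit.exists_orderOf (N := N) (k := 35)
        ⟨e.symm σ, by rw [MulEquiv.orderOf_eq, hσ]⟩
      exact no35 z hz
    · exfalso
      have hgc' : Nat.card N = 262080 := by rw [hgc]; decide +kernel
      rw [hgc'] at hi
      have h1 := (dvd_mul_left _ _).trans hi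
      norm_num at h1
    · exfalso
      have hgc' : Nat.card N = 42456960 := by rw [hgc]; decide +kernel
      rw [hgc'] at hi
      have h1 := (dvd_mul_left _ _).trans hi
      norm_num at h1
    · -- `G2(4)`
      have hgc' : Nat.card N = 251596800 := by rw [hgc]; decide +kernel
      rw [hgc'] at hi
      norm_num at hi
      have hi := eq_one_of_mul_dvd (by norm_num) hi
      have hOd : Nat.card O ∣ 1782 := S.core_dvd (N := N) (by rw [hgc'])
      have hO2 : ¬ 2 ∣ Nat.card O := S.not_dvd_core hT (s := 2) (m := 1782) (k := 1) (by norm_num) (by norm_num)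
        (i13 2 (by norm_num) (by norm_num)) (by rw [hgc']) (by norm_num) (by decide)
      have hO7 : ¬ 7 ∣ Nat.card O := fun h1 => by
        have := h1.trans hOd
        norm_num at this
      have hO3 : ¬ 3 ∣ Nat.card O := by
        intro h3
        have h3' : Fact (Nat.Prime 3) := ⟨Nat.prime_three⟩
        obtain ⟨S3⟩ : Nonempty (Sylow 3 O) := inferInstance
        obtain ⟨b, hb⟩ := IsPGroup.iff_card.1 S3.isPGroup'
        have hb1 : b ≠ 0 := by
          rintro rfl
          rw [pow_zero] at hb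
          have h4 := S3.card_eq_multiplicity
          rw [hb] at h4
          have h5 : 1 ≤ (Nat.card O).factorization 3 :=
            (Nat.prime_three.pow_dvd_iff_le_factorization (k := 1) (n := Nat.card O) Nat.card_pos.ne').1 (by rwa [pow_one])
          have h6 := Nat.one_lt_pow (n := (Nat.card O).factorization 3) (by omega) Nat.prime_three.one_lt
          omega
        have hb4 : b ≤ 4 := by
          by_contra hb5
          have h4 := (pow_dvd_pow 3 (show 5 ≤ b by omega)).trans ((hb ▸ Subgroup.card_subgroup_dvd_card _).trans hOd)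
          norm_num at h4
        obtain ⟨d, hd1, hd2, hd3⟩ := exists_fix (q := 13) (by norm_num) hT.dvdR O hT.core S3 (c := 13) (fun y hy => by
          have h4 := HN.cent_sub y
          obtain ⟨e⟩ := h
          rwa [HN.card_cent_map e (y : T), Cfsg.Agent.H153.Zeros.card_cent_suz
            (by rw [MulEquiv.orderOf_eq, Subgroup.orderOf_coe, hy])] at h4)
        obtain ⟨f, hf1, hf2, hf3⟩ := exists_fix (q := 7) (by norm_num) h7 O hO7 S3 (c := 84) (fun y hy => by
          have h4 := HN.cent_sub y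
          obtain ⟨e⟩ := h
          rwa [HN.card_cent_map e (y : T), Cfsg.Agent.H805.NilSp.cent_seven_Suz
            (by rw [MulEquiv.orderOf_eq, Subgroup.orderOf_coe, hy])] at h4)
        rw [hb] at hd1 hd3 hf1 hf3
        obtain ⟨j, -, hj⟩ := (Nat.dvd_prime_pow Nat.prime_three).1 hd1
        obtain ⟨k, -, hk⟩ := (Nat.dvd_prime_pow Nat.prime_three).1 hf1
        have hj0 : j = 0 := by
          by_contra hj2
          have h3 := (pow_dvd_pow 3 (show 1 ≤ j by omega)).trans (hj ▸ hd2)
          norm_num at h3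
        have hk1 : k ≤ 1 := by
          by_contra hj2
          have h3 := (pow_dvd_pow 3 (show 2 ≤ k by omega)).trans (hk ▸ hf2)
          norm_num at h3
        subst hj hk hj0
        unfold Nat.ModEq at hd3 hf3
        interval_cases k <;> interval_cases b <;> omega
      have c2 : Nat.Coprime 2 (Nat.card O) := (Nat.Prime.coprime_iff_not_dvd (by norm_num)).2 hO2
      have c3 : Nat.Coprime 3 (Nat.card O) := (Nat.Prime.coprime_iff_not_dvd (by norm_num)).2 hO3
      have c7 : Nat.Coprime 7 (Nat.card O) := (Nat.Prime.coprime_iff_not_dvd (by norm_num)).2 hO7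
      have h11 : ¬ 11 ∣ Nat.card M := by
        intro h11
        have h1 := S.dvd_simple hT (s := 11) (by norm_num) (i13 11 (by norm_num) (by norm_num))
          (by decide +kernel) h11
        rw [hgc'] at h1
        norm_num at h1
      refine Three.of_orders (a := 11) (b := 14) (c := 9) (by norm_num) (by norm_num) (by norm_num) e11 e14 e9
        (hnot 11 h11) ?_ ?_
      · intro m hm hmo
        obtain ⟨w, hw⟩ := Cfsg.Agent.H966.Der.Sit.exists_of_coprime hm (O := O) (N := N)
          (by rw [hmo, show 14 = 2 * 7 by norm_num]; exact c2.mul_left c7) hNn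
          (by rw [hi]; exact Nat.coprime_one_right _)
        exact no_14_g24 tab hr w (by rw [hw, hmo])
      · intro m hm hmo
        obtain ⟨w, hw⟩ := Cfsg.Agent.H966.Der.Sit.exists_of_coprime hm (O := O) (N := N)
          (by rw [hmo, show 9 = 3 * 3 by norm_num]; exact c3.mul_left c3) hNn
          (by rw [hi]; exact Nat.coprime_one_right _)
        exact no_9_g24 hr w (by rw [hw, hmo])
    · exfalso
      have hgc' : Nat.card N = 29120 := by rw [hgc]; decide +kernel
      rw [hgc'] at hi
      have h1 := (dvd_mul_left _ _).trans hi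
      norm_num at h1
  by_cases h11 : 11 ∣ Nat.card M
  · have S : Cfsg.Agent.H966.Der.Sit T 448345497600 Suz.l 11 M := ⟨tab, known, hc, Suz.valid_l, by norm_num, by norm_num, h11, hM⟩
    obtain ⟨O, hO, N, hT⟩ := S.exists_top
    have hNn := hT.normal
    have i11 := Suz.iso_11 h
    have hd7 := S.dvd_simple hT (s := 7) (by norm_num) (i11 7 (by norm_num) (by norm_num)) (by decide +kernel) h7
    have hna := Cfsg.Agent.H257.El.Sit.not_comm_of_dvd hT (by norm_num) (by norm_num) hd7
    have hNM : Nat.card N ∣ Nat.card M := (Subgroup.card_subgroup_dvd_card N).trans ⟨_, (card_quot_mul O).symm⟩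
    obtain ⟨g, hg, hr, hgc⟩ := S.exists_surv hT hna [7] (by simpa using hd7)
    have hg' := mem_of_chkSurv (L := [.alt 11, .alt 12, .alt 13, .m22]) (by decide +kernel) hg
    have hne : Nat.card N ≠ 11 := by
      intro h1
      rw [h1] at hd7
      norm_num at hd7
    have hi := S.index_dvd hT i11 hne
    simp only [List.mem_cons, List.not_mem_nil, or_false] at hg'
    rcases hg' with rfl | rfl | rfl | rfl
    · -- `A11`
      have hgc' : Nat.card N = 19958400 := by rw [hgc]; decide +kernel
      rw [hgc'] at hi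
      norm_num at hi
      have hi2 : N.index ∣ 2 := by
        have h1 : N.index * 5 ∣ 2 * 5 := hi
        exact Nat.dvd_of_mul_dvd_mul_right (by norm_num) h1
      obtain ⟨e⟩ := hr
      rcases (Nat.dvd_prime Nat.prime_two).1 hi2 with hi1 | hi1
      · have hO2 : ¬ 2 ∣ Nat.card O := S.not_dvd_core hT (s := 2) (m := 22464) (k := 6) (by norm_num) (by norm_num)
          (i11 2 (by norm_num) (by norm_num)) (by rw [hgc']) (by norm_num) (by decide)
        have hO3 : ¬ 3 ∣ Nat.card O := S.not_dvd_core hT (s := 3) (m := 22464) (k := 3) (by norm_num) (by norm_num)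
          (i11 3 (by norm_num) (by norm_num)) (by rw [hgc']) (by norm_num) (by decide)
        have c2 : Nat.Coprime 2 (Nat.card O) := (Nat.Prime.coprime_iff_not_dvd (by norm_num)).2 hO2
        have c3 : Nat.Coprime 3 (Nat.card O) := (Nat.Prime.coprime_iff_not_dvd (by norm_num)).2 hO3
        refine Three.of_orders (a := 13) (b := 24) (c := 18) (by norm_num) (by norm_num) (by norm_num) e13 e24 e18
          (hnot 13 h13) ?_ ?_
        · intro m hm hmo
          obtain ⟨w, hw⟩ := Cfsg.Agent.H966.Der.Sit.exists_of_coprime hm (O := O) (N := N)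
            (by rw [hmo, show 24 = 2 * 2 * 2 * 3 by norm_num]
                exact ((c2.mul_left c2).mul_left c2).mul_left c3) hNn
            (by rw [hi1]; exact Nat.coprime_one_right _)
          have h1 := (e w).2
          rw [Equiv.Perm.mem_alternatingGroup] at h1
          apply no_24 _ h1
          rw [Subgroup.orderOf_coe, MulEquiv.orderOf_eq, hw, hmo]
        · intro m hm hmo
          obtain ⟨w, hw⟩ := Cfsg.Agent.H966.Der.Sit.exists_of_coprime hm (O := O) (N := N)
            (by rw [hmo, show 18 = 2 * 3 * 3 by norm_num]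
                exact (c2.mul_left c3).mul_left c3) hNn
            (by rw [hi1]; exact Nat.coprime_one_right _)
          have h1 := (e w).2
          rw [Equiv.Perm.mem_alternatingGroup] at h1
          apply no_18_alt _ h1
          rw [Subgroup.orderOf_coe, MulEquiv.orderOf_eq, hw, hmo]
      · exfalso
        obtain ⟨f⟩ := Cfsg.Agent.H686.TZ.equiv_perm (n := 11) (by norm_num) N e (centralizer_top hT hna) (by
          intro h1
          rw [h1, Subgroup.index_top] at hi1
          norm_num at hi1)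
        obtain ⟨σ, hσ⟩ := exists_28
        obtain ⟨y, hy⟩ := QuotientGroup.mk'_surjective O (f.symm σ)
        obtain ⟨j, hj⟩ := exists_lift (QuotientGroup.mk' O) (z := y) (n := 28)
          (by rw [hy, MulEquiv.orderOf_eq, hσ])
        exact Suz.no_28 h ((y ^ j : M) : T) (by rw [Subgroup.orderOf_coe, hj])
    · -- `A12`
      exfalso
      obtain ⟨e⟩ := hr
      obtain ⟨σ, hσ⟩ := exists_35_12
      obtain ⟨z, hz⟩ := Cfsg.Agent.H257.El.Sit.exists_orderOf (N := N) (k := 35)
        ⟨e.symm σ, by rw [MulEquiv.orderOf_eq, hσ]⟩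
      exact no35 z hz
    · exfalso
      apply h13
      refine dvd_trans ?_ hNM
      rw [hgc]
      exact ⟨239500800, by decide +kernel⟩
    · -- `M22`
      have hgc' : Nat.card N = 443520 := hgc
      rw [hgc'] at hi
      norm_num at hi
      have hi2 : N.index ∣ 2 := by
        have h1 : N.index * 5 ∣ 2 * 5 := hi
        exact Nat.dvd_of_mul_dvd_mul_right (by norm_num) h1
      have hO2 : ¬ 2 ∣ Nat.card O := S.not_dvd_core hT (s := 2) (m := 1010880) (k := 6) (by norm_num) (by norm_num)
        (i11 2 (by norm_num) (by norm_num)) (by rw [hgc']) (by norm_num) (by decide)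
      have hO5 : ¬ 5 ∣ Nat.card O := S.not_dvd_core hT (s := 5) (m := 1010880) (k := 1) (by norm_num) (by norm_num)
        (i11 5 (by norm_num) (by norm_num)) (by rw [hgc']) (by norm_num) (by decide)
      have c2 : Nat.Coprime 2 (Nat.card O) := (Nat.Prime.coprime_iff_not_dvd (by norm_num)).2 hO2
      have c5 : Nat.Coprime 5 (Nat.card O) := (Nat.Prime.coprime_iff_not_dvd (by norm_num)).2 hO5
      have h25 : ¬ 25 ∣ Nat.card M := by
        intro h25
        rw [← card_quot_mul O, ← Subgroup.card_mul_index N, hgc'] at h25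
        have h1 : 25 ∣ 443520 * 2 * Nat.card O := h25.trans (Nat.mul_dvd_mul_right (Nat.mul_dvd_mul_left _ hi2) _)
        have h2 : 25 ∣ 443520 * 2 := by
          refine Nat.Coprime.dvd_of_dvd_mul_right ?_ h1
          rw [show 25 = 5 * 5 by norm_num]
          exact c5.mul_left c5
        norm_num at h2
      obtain ⟨x, hx, hxM⟩ := exists_miss h h25
      refine three_of_miss (x := x13) (y := x20) (z := x) (Cfsg.Agent.H348.Der.not_mem_of_order e13 (hnot 13 h13))
        (Cfsg.Agent.H348.Der.not_mem_of_order e20 ?_) hxM (by rw [e13, e20]; norm_num) (by rw [e13, hx]; norm_num)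
        (by rw [e20, hx]; norm_num)
      intro m hm hmo
      obtain ⟨w, hw⟩ := Cfsg.Agent.H966.Der.Sit.exists_pow_index hm (O := O) (N := N)
        (by rw [hmo, show 20 = 2 * 2 * 5 by norm_num]; exact (c2.mul_left c2).mul_left c5) hNn
      rw [hmo] at hw
      rcases (Nat.dvd_prime Nat.prime_two).1 hi2 with hi1 | hi1
      · rw [hi1] at hw
        exact no_m22 hr (k := 4) (by norm_num) w (by rw [hw]; norm_num)
      · rw [hi1] at hw
        exact no_m22 hr (k := 2) (by norm_num) w (by rw [hw]; norm_num)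
  by_cases h25 : 25 ∣ Nat.card M
  · have S : Cfsg.Agent.H966.Der.Sit T 448345497600 Suz.l 7 M := ⟨tab, known, hc, Suz.valid_l, by norm_num, by norm_num, h7, hM⟩
    obtain ⟨O, hO, N, hT⟩ := S.exists_top
    have hNn := hT.normal
    have hNM : Nat.card N ∣ Nat.card M := (Subgroup.card_subgroup_dvd_card N).trans ⟨_, (card_quot_mul O).symm⟩
    have hd25 : 5 ^ 2 ∣ Nat.card N := S.pow_dvd hT (s := 5) (by norm_num) no35 (by decide +kernel)
      (by rwa [show 5 ^ 2 = 25 by norm_num])
    have hd5 : 5 ∣ Nat.card N := (dvd_pow_self 5 (by norm_num)).trans hd25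
    have hna := Cfsg.Agent.H257.El.Sit.not_comm_of_dvd hT (by norm_num) (by norm_num) hd5
    obtain ⟨g, hg, hr, hgc⟩ := S.exists_surv hT hna [5] (by simpa using hd5)
    have hg' := surv_chk
    rw [List.all_eq_true] at hg'
    have hg'' := hg' g hg
    rw [Bool.or_eq_true, Bool.or_eq_true, Bool.or_eq_true, decide_eq_true_eq, bne_iff_ne, beq_iff_eq, beq_iff_eq,
      ← hgc] at hg''
    have hcore : ∀ m : ℕ, Nat.card N * m = 448345497600 → ¬ 5 ∣ m → ¬ 2 ^ 7 ∣ m →
        ¬ 5 ∣ Nat.card O ∧ ∀ b, 2 ^ b ∣ Nat.card O → b ≤ 6 := by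
      intro m hm h5m h2m
      have hOd : Nat.card O ∣ m := S.core_dvd (N := N) hm
      refine ⟨fun h1 => h5m (h1.trans hOd), fun b hb => ?_⟩
      by_contra hb7
      exact h2m ((pow_dvd_pow 2 (by omega)).trans (hb.trans hOd))
    have hN7 : ¬ 7 ∣ N.index := by
      intro h1
      apply S.sqM
      have h2 : Nat.card N * N.index ∣ Nat.card M := by
        rw [Subgroup.card_mul_index, ← card_quot_mul O]
        exact dvd_mul_right _ _
      rw [pow_two]
      exact (Nat.mul_dvd_mul hT.dvd h1).trans h2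
    -- the end
    have key : (¬ 5 ∣ Nat.card O ∧ ∀ b, 2 ^ b ∣ Nat.card O → b ≤ 6) → ¬ 4 ∣ N.index → (∀ w : N, orderOf w ≠ 14) →
        Three T M := by
      rintro ⟨k1, k2⟩ k3 k4
      by_cases k5 : ∃ a ∈ M, orderOf a = 14
      · by_cases k6 : ∃ b ∈ M, orderOf b = 21
        · exfalso
          obtain ⟨a, ha, hao⟩ := k5
          obtain ⟨b, hb, hbo⟩ := k6
          exact no_both h h25 k1 hT.core k2 k3 hN7 k4 ha hb hao hbo
        · push Not at k6
          exact Three.of_orders (a := 11) (b := 13) (c := 21) (by norm_num) (by norm_num) (by norm_num) e11 e13 e21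
            (hnot 11 h11) (hnot 13 h13) k6
      · push Not at k5
        exact Three.of_orders (a := 11) (b := 13) (c := 14) (by norm_num) (by norm_num) (by norm_num) e11 e13 e14
          (hnot 11 h11) (hnot 13 h13) k5
    rcases hg'' with (rfl | rfl | rfl) | hg'' | hg'' | hg''
    · -- `J2`
      have hgc' : Nat.card N = 604800 := hgc
      exact key (hcore 741312 (by rw [hgc']) (by norm_num) (by norm_num)) (index_j2 N (centralizer_top hT hna) hr)
        (no_14_j2 hr)
    · -- `A10`
      have hgc' : Nat.card N = 1814400 := by rw [hgc]; decide +kernel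
      obtain ⟨e⟩ := hr
      refine key (hcore 247104 (by rw [hgc']) (by norm_num) (by norm_num)) (fun h1 => ?_) fun w hw => ?_
      · have h2 := h1.trans (index_alt hT hna (by norm_num) e)
        norm_num at h2
      · have h1 := (e w).2
        rw [Equiv.Perm.mem_alternatingGroup] at h1
        apply no_14_alt (le_refl 10) _ h1
        rw [Subgroup.orderOf_coe, MulEquiv.orderOf_eq, hw]
    · -- `O8+(2)`
      have hgc' : Nat.card N = 174182400 := by rw [hgc]; decide +kernel
      refine key (hcore 2574 (by rw [hgc']) (by norm_num) (by norm_num)) (fun h1 => ?_) (no_14_o8 hr)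
      have h2 : N.index ∣ 2574 := S.index_dvd' (N := N) (by rw [hgc'])
      have h3 := h1.trans h2
      norm_num at h3
    · exfalso
      apply hg''
      rw [← Nat.dvd_iff_mod_eq_zero]
      rwa [show 5 ^ 2 = 25 by norm_num] at hd25
    · exact absurd ((Nat.dvd_of_mod_eq_zero hg'').trans hNM) h11
    · exact absurd ((Nat.dvd_of_mod_eq_zero hg'').trans hNM) h13
  · obtain ⟨x, hx, hxM⟩ := exists_miss h h25
    exact three_of_miss (x := x11) (y := x13) (z := x) (Cfsg.Agent.H348.Der.not_mem_of_order e11 (hnot 11 h11))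
      (Cfsg.Agent.H348.Der.not_mem_of_order e13 (hnot 13 h13)) hxM (by rw [e11, e13]; norm_num) (by rw [e11, hx]; norm_num)
      (by rw [e13, hx]; norm_num)

include tab known in
/-- **RowS for Suz** -/
theorem rowS_of (h : Spor.IsoSuz T) : RowS T := by
  have := Suz.finite h
  exact RowS.of_three fun M hM => three_of tab known h hM.1

end Cfsg.Agent.H348.Der.SuzRow
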