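import Cfsg.Agent.H348.Der.SuzFacts
import Cfsg.Agent.H348.Der.FiveAct
import Cfsg.Agent.H966.Der.Suz
import Cfsg.Agent.H966.Der.HNS
import Cfsg.Agent.H379.J2Spec
import Cfsg.Agent.H320.O8.Facts
import Cfsg.Agent.H4.JT.AutJ
import Cfsg.Agent.H482.TwoCyc.Num

/-!
# Three classes of derangements (S3502): `Suz`, tools (helper348)
-/

set_option autoImplicit false
set_option maxRecDepth 100000

namespace Cfsg.Agent.H348.Der.SuzRow

open Subgroup Cfsg
open Cfsg.Agent.OrdDiv Cfsg.Agent.H257.El Cfsg.Agent.H439.Der Cfsg.Agent.H938.Sax Cfsg.Agent.H966.Der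

universe u

section words

open Cfsg.Agent.H92.KTools Cfsg.Agent.H771 Cfsg.Agent.H771.KTools
open Cfsg.Agent.Lib.PermNet Cfsg.Agent.Lib.PermNetOrbit Cfsg.Agent.SporadicRecognition.SuzPhi
open Cfsg.Agent.SuzThree.Basic Cfsg.Agent.CpAutSuz.Fix Cfsg.Agent.SporadicRecognition.SuzOrder

theorem ord_suz_18 : ∃ x : Spor.Suz, orderOf x = 18 := by
  refine hasOrd_of_pow (x := el [.f, .g, .b, .c, .e, .f, .d, .c, .b]) (by norm_num) ?_ ?_
  · rw [el_pow]
    exact eq_of_reps (Rep.el _) Rep.one (by decide +kernel)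
  · intro p hp
    rw [show Nat.primeFactors 18 = {2, 3} by decide +kernel] at hp
    simp only [Finset.mem_insert, Finset.mem_singleton] at hp
    rcases hp with rfl | rfl
    · rw [show 18 / 2 = 9 from rfl, el_pow]
      exact Cfsg.Agent.H99.SuzFive.ne_one 0 (by decide +kernel)
    · rw [show 18 / 3 = 6 from rfl, el_pow]
      exact Cfsg.Agent.H99.SuzFive.ne_one 0 (by decide +kernel)

end words

/-! ### element orders of `G2(4)`, `J2`, `A10`, `A11`, `PΩ8+(2)` -/

def vals (n : ℕ) : ℕ := if n = 1 then 3 else if n = 2 then 5 else if n = 3 then 21 else if n = 4 then 17 else 13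

theorem vals_chk : ∀ S ∈ ({1, 2, 3, 4, 6} : Finset ℕ).powerset, ∑ n ∈ S, Nat.totient n ≤ 2 → ¬ 9 ∣ ∏ n ∈ S, vals n := by
  decide +kernel

theorem no_9_g24 {S : Type*} [Group S] (h : Real (.g2 4) S) (z : S) : orderOf z ≠ 9 := by
  obtain ⟨F, _, _, hF, ⟨e⟩⟩ := h
  intro hz
  obtain ⟨p, k, m, j, hp, hk, hq, ho, hm0, -, -, -, ⟨S, hS0, hS, hd⟩, -⟩ := Cfsg.Agent.H482.TwoCyc.Untw.ords_G2 (e z)
  rw [Nat.card_eq_fintype_card, hF] at hq hd
  have hp2 : p = 2 := by
    have h1 : p ∣ 4 := by rw [hq]; exact dvd_pow_self p hk.ne'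
    exact (Nat.prime_dvd_prime_iff_eq hp Nat.prime_two).1 (hp.dvd_of_dvd_pow (show p ∣ 2 ^ 2 by norm_num; exact h1))
  subst hp2
  rw [MulEquiv.orderOf_eq, hz] at ho
  have hj : j = 0 := by
    rcases Nat.eq_zero_or_pos j with h1 | h1
    · exact h1
    · exfalso
      have h2 : 2 ∣ 9 := by rw [ho]; exact (dvd_pow_self 2 h1.ne').mul_left m
      norm_num at h2
  subst hj
  rw [pow_zero, mul_one] at ho
  subst ho
  have hmem : ∀ n ∈ S, n ∈ ({1, 2, 3, 4, 6} : Finset ℕ) := by
    intro n hn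
    have h1 : Nat.totient n ≤ 2 := (Finset.single_le_sum (f := Nat.totient) (fun _ _ => Nat.zero_le _) hn).trans hS
    have h2 := Cfsg.Agent.H482.TwoCyc.Num.mem_tab (hS0 n hn) (h1.trans (by norm_num))
    revert h1
    simp only [List.mem_cons, List.not_mem_nil, or_false] at h2
    rcases h2 with rfl | rfl | rfl | rfl | rfl | rfl | rfl | rfl | rfl | rfl | rfl | rfl | rfl <;> decide +kernel
  refine vals_chk S (Finset.mem_powerset.2 hmem) hS ?_
  have h3 : (Polynomial.eval ((4 : ℕ) : ℤ) (∏ n ∈ S, Polynomial.cyclotomic n ℤ)) = ((∏ n ∈ S, vals n : ℕ) : ℤ) := by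
    rw [Polynomial.eval_prod]
    push_cast
    refine Finset.prod_congr rfl fun n hn => ?_
    have h4 := hmem n hn
    simp only [Finset.mem_insert, Finset.mem_singleton] at h4
    rcases h4 with rfl | rfl | rfl | rfl | rfl
    · have := Cfsg.Agent.H482.TwoCyc.Num.v1 4
      push_cast at this
      rw [this]; norm_num [vals]
    · have := Cfsg.Agent.H482.TwoCyc.Num.v2 4
      push_cast at this
      rw [this]; norm_num [vals]
    · have := Cfsg.Agent.H482.TwoCyc.Num.v3 4 (by norm_num)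
      push_cast at this
      rw [this]; norm_num [vals]
    · have := Cfsg.Agent.H482.TwoCyc.Num.v4 4 (by norm_num)
      push_cast at this
      rw [this]; norm_num [vals]
    · have := Cfsg.Agent.H482.TwoCyc.Num.v6 4 (by norm_num)
      push_cast at this
      rw [this]; norm_num [vals]
  rw [h3] at hd
  exact_mod_cast hd

theorem no_14_j2 {S : Type*} [Group S] (h : Spor.IsoJ2 S) (z : S) : orderOf z ≠ 14 := by
  obtain ⟨e⟩ := h
  intro hz
  have h1 : orderOf (e z) ∈ Set.range (orderOf : Spor.J2 → ℕ) := ⟨e z, rfl⟩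
  rw [Cfsg.Agent.H379.J2Spec.range_J2, MulEquiv.orderOf_eq, hz] at h1
  simp at h1

theorem no_14_o8 {S : Type*} [Group S] (h : Real (.oplus 4 2) S) (z : S) : orderOf z ≠ 14 := by
  obtain ⟨F, _, _, hF, ⟨e⟩⟩ := h
  have hf := Cfsg.Agent.H320.O8.fct_T hF
  intro hz
  have h1 : orderOf ((e z) ^ 2) = 7 := by
    rw [orderOf_pow_of_dvd (by norm_num) (by rw [MulEquiv.orderOf_eq, hz]; norm_num), MulEquiv.orderOf_eq, hz]
  have h2 := hf.c7 _ h1
  have h3 : e z ∈ centralizer ({(e z) ^ 2} : Set _) := mem_centralizer_singleton_iff.2 ((Commute.refl _).pow_right 2).eq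
  have h4 := Subgroup.orderOf_dvd_natCard _ h3
  rw [h2, MulEquiv.orderOf_eq, hz] at h4
  norm_num at h4

/-- two cycles filling up -/
theorem cycleType_pair {n : ℕ} {σ : Equiv.Perm (Fin n)} {c d : ℕ} (hc : c ∈ σ.cycleType) (hd : d ∈ σ.cycleType)
    (hcd : c ≠ d) (hn : n < c + d + 2) : σ.cycleType = {c, d} := by
  obtain ⟨s, hs⟩ := Multiset.exists_cons_of_mem hc
  have hd' : d ∈ s := by
    rw [hs, Multiset.mem_cons] at hd
    exact hd.resolve_left fun h => hcd h.symm
  obtain ⟨t, ht⟩ := Multiset.exists_cons_of_mem hd'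
  have hsum := Equiv.Perm.sum_cycleType σ
  have hle : σ.support.card ≤ n := by
    have h3 := Finset.card_le_univ σ.support
    rwa [Fintype.card_fin] at h3
  have ht0 : t = 0 := by
    by_contra h5
    obtain ⟨e, he⟩ := Multiset.exists_mem_of_ne_zero h5
    have h6 : 2 ≤ e := Equiv.Perm.two_le_of_mem_cycleType (σ := σ) (by
      rw [hs, ht]
      exact Multiset.mem_cons_of_mem (Multiset.mem_cons_of_mem he))
    have h7 := Multiset.single_le_sum (fun _ _ => Nat.zero_le _) e he
    rw [hs, ht, Multiset.sum_cons, Multiset.sum_cons] at hsum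
    omega
  rw [hs, ht, ht0]
  rfl

theorem pair_le {n : ℕ} {σ : Equiv.Perm (Fin n)} {c d : ℕ} (hc : c ∈ σ.cycleType) (hd : d ∈ σ.cycleType)
    (hcd : c ≠ d) : c + d ≤ n := by
  obtain ⟨s, hs⟩ := Multiset.exists_cons_of_mem hc
  have hd' : d ∈ s := by
    rw [hs, Multiset.mem_cons] at hd
    exact hd.resolve_left fun h => hcd h.symm
  have hsum := Equiv.Perm.sum_cycleType σ
  have hle : σ.support.card ≤ n := by
    have h3 := Finset.card_le_univ σ.support
    rwa [Fintype.card_fin] at h3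
  have h7 := Multiset.single_le_sum (fun _ _ => Nat.zero_le _) d hd'
  rw [hs, Multiset.sum_cons] at hsum
  omega

theorem no_14_alt {n : ℕ} (hn : n ≤ 10) (σ : Equiv.Perm (Fin n)) (hs : Equiv.Perm.sign σ = 1) : orderOf σ ≠ 14 := by
  intro h
  obtain ⟨c, hc, hd⟩ := exists_cycle σ (p := 7) (k := 1) (by norm_num) (by norm_num) (by rw [h]; norm_num)
  obtain ⟨d, hd', hdd⟩ := exists_cycle σ (p := 2) (k := 1) (by norm_num) (by norm_num) (by rw [h]; norm_num)
  have h1 := le_of_mem_cycleType hc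
  have h2 : 2 ≤ c := Equiv.Perm.two_le_of_mem_cycleType hc
  have hc7 : c = 7 := by
    obtain ⟨m, rfl⟩ := hd
    have : m = 1 := by omega
    rw [this]; norm_num
  subst hc7
  have hne : 7 ≠ d := by
    rintro rfl
    norm_num at hdd
  have h3 := pair_le hc hd' hne
  have h4 : 2 ≤ d := Equiv.Perm.two_le_of_mem_cycleType hd'
  have hd2 : d = 2 := by
    obtain ⟨m, rfl⟩ := hdd
    have : m = 1 := by omega
    rw [this]; norm_num
  subst hd2
  have h5 := cycleType_pair hc hd' hne (by omega)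
  rw [Equiv.Perm.sign_of_cycleType, h5] at hs
  revert hs
  decide

theorem no_18_alt (σ : Equiv.Perm (Fin 11)) (hs : Equiv.Perm.sign σ = 1) : orderOf σ ≠ 18 := by
  intro h
  obtain ⟨c, hc, hd⟩ := exists_cycle σ (p := 3) (k := 2) (by norm_num) (by norm_num) (by rw [h]; norm_num)
  obtain ⟨d, hd', hdd⟩ := exists_cycle σ (p := 2) (k := 1) (by norm_num) (by norm_num) (by rw [h]; norm_num)
  have h1 := le_of_mem_cycleType hc
  have h2 : 2 ≤ c := Equiv.Perm.two_le_of_mem_cycleType hc
  have hc9 : c = 9 := by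
    obtain ⟨m, rfl⟩ := hd
    have : m = 1 := by omega
    rw [this]; norm_num
  subst hc9
  have hne : 9 ≠ d := by
    rintro rfl
    norm_num at hdd
  have h3 := pair_le hc hd' hne
  have h4 : 2 ≤ d := Equiv.Perm.two_le_of_mem_cycleType hd'
  have hd2 : d = 2 := by
    obtain ⟨m, rfl⟩ := hdd
    have : m = 1 := by omega
    rw [this]; norm_num
  subst hd2
  have h5 := cycleType_pair hc hd' hne (by omega)
  rw [Equiv.Perm.sign_of_cycleType, h5] at hs
  revert hs
  decide

/-! ### the index of `J2` -/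

theorem conjNormal_injective {Q : Type*} [Group Q] (N : Subgroup Q) [N.Normal] (hC : centralizer (N : Set Q) = ⊥) :
    Function.Injective (MulAut.conjNormal : Q →* MulAut N) := by
  rw [injective_iff_map_eq_one]
  intro q hq
  have h1 : q ∈ centralizer (N : Set Q) := by
    rw [mem_centralizer_iff]
    intro n hn
    have h2 := congrArg (fun f : MulAut N => ((f ⟨n, hn⟩ : N) : Q)) hq
    have h3 : q * n * q⁻¹ = n := h2
    exact (mul_inv_eq_iff_eq_mul.1 h3).symm
  rw [hC, mem_bot] at h1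
  exact h1

theorem index_j2 {Q : Type*} [Group Q] [Finite Q] (N : Subgroup Q) [N.Normal] (hC : centralizer (N : Set Q) = ⊥)
    (h : Spor.IsoJ2 N) : ¬ 4 ∣ N.index := by
  have : Finite (MulAut N) := Finite.of_injective (fun f : MulAut N => (f : N → N)) DFunLike.coe_injective
  have h1 := Nat.card_le_card_of_injective _ (conjNormal_injective N hC)
  have h2 := h1.trans (Cfsg.Agent.H4.JT.j2_aut_card h)
  rw [← Subgroup.card_mul_index N, mul_comm 2] at h2
  have h3 := Nat.le_of_mul_le_mul_left h2 Nat.card_pos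
  have h4 : N.index ≠ 0 := Subgroup.index_ne_zero_of_finite
  intro hd
  have := Nat.le_of_dvd (Nat.pos_of_ne_zero h4) hd
  omega

/-! ### four-groups and nines -/

theorem sq_dvd_of_comm {G : Type*} [Group G] [Finite G] {p : ℕ} (hp : p.Prime) (H : Subgroup G) {s t : G} (hs : s ∈ H)
    (ht : t ∈ H) (hst : s * t = t * s) (hs3 : orderOf s = p) (ht3 : orderOf t = p) (hn : t ∉ zpowers s) :
    p ^ 2 ∣ Nat.card H := by
  have hc : ∀ (a : zpowers s) (b : zpowers t), Commute ((zpowers s).subtype a) ((zpowers t).subtype b) := by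
    rintro ⟨_, i, rfl⟩ ⟨_, j, rfl⟩
    exact ((show Commute s t from hst).zpow_left i).zpow_right j
  have hdis : zpowers s ⊓ zpowers t = ⊥ := by
    by_contra hne
    have h1 : Nat.card ↥(zpowers s ⊓ zpowers t) ∣ p := by
      have h2 : Nat.card ↥(zpowers s ⊓ zpowers t) ∣ Nat.card (zpowers s) := card_dvd_of_le inf_le_left
      rwa [Nat.card_zpowers, hs3] at h2
    rcases (Nat.dvd_prime hp).1 h1 with h2 | h2
    · exact hne (Subgroup.eq_bot_of_card_eq _ h2)
    · have h3 : zpowers s ⊓ zpowers t = zpowers t :=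
        eq_of_le_of_card_ge inf_le_right (by rw [h2, Nat.card_zpowers, ht3])
      apply hn
      have h4 : t ∈ zpowers s ⊓ zpowers t := by rw [h3]; exact mem_zpowers t
      exact h4.1
  have hinj : Function.Injective (MonoidHom.noncommCoprod (zpowers s).subtype (zpowers t).subtype hc) := by
    rw [MonoidHom.noncommCoprod_injective]
    refine ⟨subtype_injective _, subtype_injective _, ?_⟩
    rw [Subgroup.range_subtype, Subgroup.range_subtype, disjoint_iff]
    exact hdis
  have h1 : Nat.card (MonoidHom.noncommCoprod (zpowers s).subtype (zpowers t).subtype hc).range = p ^ 2 := by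
    rw [← Nat.card_congr (MonoidHom.ofInjective hinj).toEquiv, Nat.card_prod, Nat.card_zpowers, Nat.card_zpowers, hs3,
      ht3, pow_two]
  have h2 : (MonoidHom.noncommCoprod (zpowers s).subtype (zpowers t).subtype hc).range ≤ H := by
    rintro _ ⟨⟨⟨_, i, rfl⟩, ⟨_, j, rfl⟩⟩, rfl⟩
    exact H.mul_mem (H.zpow_mem hs i) (H.zpow_mem ht j)
  have h3 := card_dvd_of_le h2
  rwa [h1] at h3

end Cfsg.Agent.H348.Der.SuzRow
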